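import Mathlib

/-!
Multiplicities of the eigenvalues of an operator of odd order in the exceptional situation of
Hall and Higman.
-/

set_option autoImplicit false

namespace Cfsg.Agent.Lib.Solvable.ShultGross

open Finset

variable {Λ : Type*} [CommGroup Λ] [Fintype Λ]

/-- If all correlations of the multiplicity function differ by at most the trivial amount and one
multiplicity vanishes, then the total is `1` or `|Λ| - 1`. -/
theorem dim_cases (d : Λ → ℕ) (hodd : Odd (Fintype.card Λ)) (hd1 : d 1 = 0)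
    (hd : ∃ x, d x ≠ 0) (c : Λ → ℕ) (y : ℕ)
    (hS : ∀ ψ, ∑ x, d x * d (x * ψ) = c ψ + y) (hc1 : c 1 = 1) :
    (∀ ψ, ψ ≠ 1 → c ψ = 0) ∧ ((∑ x, d x) = 1 ∨ (∑ x, d x) + 1 = Fintype.card Λ) := by
  classical
  let D : Λ → ℤ := fun x => d x
  have hS' : ∀ ψ, ∑ x, D x * D (x * ψ) = (c ψ : ℤ) + y := fun ψ => by
    simp only [D]; exact_mod_cast hS ψ
  have hsq : ∀ ψ, ∑ x, (D x - D (x * ψ)) ^ 2 = 2 * (1 - (c ψ : ℤ)) := by
    intro ψ
    have h1 : ∑ x, D (x * ψ) ^ 2 = ∑ x, D x ^ 2 :=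
      Fintype.sum_equiv (Equiv.mulRight ψ) _ _ fun x => rfl
    have h2 : ∑ x, D x ^ 2 = 1 + (y : ℤ) := by
      have := hS' 1
      simp only [mul_one, hc1, Nat.cast_one, ← sq] at this
      exact this
    calc ∑ x, (D x - D (x * ψ)) ^ 2 = ∑ x, (D x ^ 2 + D (x * ψ) ^ 2 - 2 * (D x * D (x * ψ))) :=
          Finset.sum_congr rfl fun x _ => by ring
      _ = (∑ x, D x ^ 2 + ∑ x, D (x * ψ) ^ 2) - 2 * ∑ x, D x * D (x * ψ) := by
          rw [Finset.sum_sub_distrib, Finset.sum_add_distrib, Finset.mul_sum]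
      _ = _ := by rw [h1, h2, hS']; ring
  have hc : ∀ ψ, ψ ≠ 1 → c ψ = 0 := by
    intro ψ hψ
    by_contra hne
    have hge : 0 ≤ ∑ x, (D x - D (x * ψ)) ^ 2 := Finset.sum_nonneg fun x _ => sq_nonneg _
    have hz : ∑ x, (D x - D (x * ψ)) ^ 2 = 0 := by rw [hsq] at hge ⊢; omega
    have hper : ∀ x, D (x * ψ) = D x := fun x => by
      have := (Finset.sum_eq_zero_iff_of_nonneg fun x _ => sq_nonneg _).mp hz x (Finset.mem_univ x)
      have := pow_eq_zero_iff (two_ne_zero) |>.mp this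
      omega
    have hψ2 : ψ * ψ ≠ 1 := by
      intro e
      have h1 : orderOf ψ ∣ 2 := orderOf_dvd_of_pow_eq_one (by rw [sq, e])
      rcases (Nat.dvd_prime Nat.prime_two).mp h1 with h | h
      · exact hψ (orderOf_eq_one_iff.mp h)
      · exact hodd.not_two_dvd_nat (h ▸ orderOf_dvd_card)
    have hconst : ∀ x ξ, D (x * ξ) = D x := by
      intro x ξ
      by_contra hx
      let f : Λ → ℤ := fun z => (D z - D (z * ξ)) ^ 2
      have hf : ∀ z, f (z * ψ) = f z := fun z => by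
        simp only [f]
        rw [hper, mul_right_comm, hper]
      have h1 : 1 ≤ f x := by
        have : 0 < f x := lt_of_le_of_ne (sq_nonneg _) (Ne.symm (pow_ne_zero 2 (by omega)))
        omega
      have h3 : ∑ z ∈ ({x, x * ψ, x * ψ * ψ} : Finset Λ), f z = 3 * f x := by
        rw [Finset.sum_insert, Finset.sum_pair, hf, hf, hf]
        · ring
        · intro e
          exact hψ (left_eq_mul.mp e)
        · intro e
          rw [Finset.mem_insert, Finset.mem_singleton] at e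
          rcases e with e | e
          · exact hψ (left_eq_mul.mp e)
          · exact hψ2 (left_eq_mul.mp (e.trans (mul_assoc _ _ _)))
      have h4 : ∑ z ∈ ({x, x * ψ, x * ψ * ψ} : Finset Λ), f z ≤ ∑ z, f z :=
        Finset.sum_le_sum_of_subset_of_nonneg (Finset.subset_univ _) fun z _ _ => sq_nonneg _
      have h5 := hsq ξ
      rw [h3] at h4
      simp only [f] at h4 h1
      omega
    obtain ⟨x, hx⟩ := hd
    have := hconst 1 x
    simp only [D, one_mul, hd1] at this
    exact hx (by exact_mod_cast this)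
  refine ⟨hc, ?_⟩
  have h1 : (∑ x, d x) ^ 2 = ∑ ψ, (c ψ + y) := by
    rw [sq, Finset.sum_mul_sum, ← Finset.sum_congr rfl fun ψ _ => hS ψ, Finset.sum_comm (f := fun ψ x => d x * d (x * ψ))]
    refine Finset.sum_congr rfl fun x _ => ?_
    exact (Fintype.sum_equiv (Equiv.mulLeft x) _ _ fun ψ => rfl).symm
  have h2 : ∑ ψ, (c ψ + y) = 1 + Fintype.card Λ * y := by
    rw [Finset.sum_add_distrib, Finset.sum_const, smul_eq_mul, Finset.card_univ,
      Finset.sum_eq_single (1 : Λ) (fun ψ _ h => hc ψ h) (fun h => absurd (Finset.mem_univ _) h), hc1]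
  have h3 : ∑ x, d x ^ 2 = 1 + y := by
    have := hS 1
    simpa [hc1, sq] using this
  let A : Finset Λ := Finset.univ.filter fun x => d x ≠ 0
  have hA1 : ∑ x ∈ A, d x = ∑ x, d x := Finset.sum_filter_ne_zero _
  have hA2 : ∑ x ∈ A, d x ^ 2 = ∑ x, d x ^ 2 :=
    Finset.sum_subset (Finset.subset_univ _) fun x _ hx => by
      have : d x = 0 := by simpa [A] using hx
      rw [this]; rfl
  have hCS : (∑ x ∈ A, d x) ^ 2 ≤ #A * ∑ x ∈ A, d x ^ 2 := sq_sum_le_card_mul_sum_sq
  have hlow : #A ≤ ∑ x ∈ A, d x ^ 2 := by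
    rw [Finset.card_eq_sum_ones]
    exact Finset.sum_le_sum fun x hx => Nat.one_le_pow _ _ (Nat.pos_of_ne_zero (Finset.mem_filter.mp hx).2)
  have hlt : #A < Fintype.card Λ :=
    Finset.card_lt_univ_of_notMem (x := (1 : Λ)) (by simp [A, hd1])
  have hpos : 1 ≤ #A := by
    obtain ⟨x, hx⟩ := hd
    exact Finset.card_pos.mpr ⟨x, Finset.mem_filter.mpr ⟨Finset.mem_univ x, hx⟩⟩
  obtain ⟨r, hr⟩ : ∃ r, Fintype.card Λ = #A + r + 1 := ⟨Fintype.card Λ - #A - 1, by omega⟩
  rw [hA1, hA2, h3, h1, h2, hr] at hCS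
  rw [hA2, h3] at hlow
  have key : (r + 1) * y ≤ #A - 1 := by
    have : 1 + (#A + r + 1) * y ≤ #A + #A * y := by rwa [mul_add, mul_one] at hCS
    have e : (#A + r + 1) * y = #A * y + (r + 1) * y := by ring
    omega
  have hy : #A - 1 ≤ y := by omega
  have hall : y = #A - 1 ∧ (#A = 1 ∨ r = 0) := by
    rcases Nat.eq_zero_or_pos r with h | h
    · subst h
      simp only [zero_add, one_mul] at key
      exact ⟨le_antisymm key hy, Or.inr rfl⟩
    · have : 2 * y ≤ (r + 1) * y := Nat.mul_le_mul_right y (by omega)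
      exact ⟨by omega, Or.inl (by omega)⟩
  have hones : ∀ x ∈ A, d x = 1 := by
    have : ∑ x ∈ A, d x ^ 2 = ∑ x ∈ A, 1 := by
      rw [← Finset.card_eq_sum_ones, hA2, h3]; omega
    intro x hx
    have hle : ∀ z ∈ A, 1 ≤ d z ^ 2 := fun z hz =>
      Nat.one_le_pow _ _ (Nat.pos_of_ne_zero (Finset.mem_filter.mp hz).2)
    have := ((Finset.sum_eq_sum_iff_of_le hle).mp this.symm x hx).symm
    exact (pow_eq_one_iff.mp this).resolve_right two_ne_zero
  have hS1 : ∑ x, d x = #A := by rw [← hA1, Finset.sum_congr rfl hones, ← Finset.card_eq_sum_ones]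
  rcases hall.2 with h | h
  · exact Or.inl (hS1.trans h)
  · exact Or.inr (by rw [hS1, hr, h, add_zero])

end Cfsg.Agent.Lib.Solvable.ShultGross
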