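import Mathlib
import Cfsg.Agent.Lib.Solvable.FPF.Module

/-!
Weight orbits under an operator, and elementary facts about fixed-point-free actions.
-/

set_option autoImplicit false

namespace Cfsg.Agent.Lib.Solvable.ShultGross

open Module

/-- The least positive power of `θ` fixing `χ`. -/
theorem exists_period {Z : Type*} [Group Z] {α : Type*} (θ : MulAut Z) (χ : Z → α) {M : ℕ}
    (hM : 0 < M) (hθ : θ ^ M = 1) :
    ∃ N, 0 < N ∧ N ∣ M ∧ (∀ y, χ ((θ ^ N) y) = χ y) ∧
      ∀ i, (∀ y, χ ((θ ^ i) y) = χ y) → N ∣ i := by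
  classical
  have hex : ∃ N, 0 < N ∧ ∀ y, χ ((θ ^ N) y) = χ y := ⟨M, hM, fun y => by rw [hθ]; rfl⟩
  obtain ⟨hN, hfix⟩ := Nat.find_spec hex
  set N := Nat.find hex with hNdef
  have hmul : ∀ a y, χ ((θ ^ (N * a)) y) = χ y := by
    intro a
    induction a with
    | zero => intro y; rfl
    | succ a ih => intro y; rw [Nat.mul_succ, pow_add, MulAut.mul_apply, ih, hfix]
  have hdvd : ∀ i, (∀ y, χ ((θ ^ i) y) = χ y) → N ∣ i := by
    intro i hi
    by_contra hd
    refine Nat.find_min hex (m := i % N) (Nat.mod_lt i hN)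
      ⟨Nat.pos_of_ne_zero fun h => hd (Nat.dvd_of_mod_eq_zero h), fun y => ?_⟩
    have h1 := hi y
    rw [← Nat.div_add_mod i N, pow_add, MulAut.mul_apply, hmul] at h1
    exact h1
  exact ⟨N, hN, hdvd M (fun y => by rw [hθ]; rfl), hfix, hdvd⟩

variable {k : Type*} [Field k] {W : Type*} [AddCommGroup W] [Module k W]

/-- A vector fixed by the stabiliser of its weight gives a nonzero fixed vector. -/
theorem orbit_sum {Z : Type*} [Group Z] (f : Z → End k W) (T : End k W) (θ : MulAut Z)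
    (hf : ∀ y, T * f y = f (θ y) * T) (χ : Z → k) (w : W) (hw0 : w ≠ 0)
    (hw : ∀ y, f y w = χ y • w) (N : ℕ) (hN : 0 < N)
    (hdist : ∀ i, (∀ y, χ ((θ ^ i) y) = χ y) → N ∣ i) (hTw : (T ^ N) w = w)
    (U : Submodule k W) (hwU : w ∈ U) (hTU : ∀ u ∈ U, T u ∈ U) :
    ∃ u ∈ U, u ≠ 0 ∧ T u = u := by
  classical
  have hpow : ∀ i y, T ^ i * f y = f ((θ ^ i) y) * T ^ i := by
    intro i
    induction i with
    | zero => intro y; simp
    | succ i ih =>
      intro y
      rw [pow_succ T, pow_succ θ, mul_assoc, hf, ← mul_assoc, ih, MulAut.mul_apply, mul_assoc]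
  have hwt : ∀ i z, f z ((T ^ i) w) = χ (((θ ^ i)⁻¹) z) • (T ^ i) w := by
    intro i z
    have h1 := congrArg (fun e : End k W => e w) (hpow i ((θ ^ i)⁻¹ z))
    simp only [End.mul_apply, hw, map_smul, MulAut.apply_inv_self] at h1
    exact h1.symm
  refine ⟨∑ i ∈ Finset.range N, (T ^ i) w, Submodule.sum_mem _ fun i _ => ?_, ?_, ?_⟩
  · clear * - hwU hTU
    induction i with
    | zero => exact hwU
    | succ i ih => rw [pow_succ', End.mul_apply]; exact hTU _ ih
  · intro h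
    have hd : ∀ i ∈ Finset.range N, ∀ j ∈ Finset.range N,
        (fun z => χ (((θ ^ i)⁻¹) z)) = (fun z => χ (((θ ^ j)⁻¹) z)) → i = j := by
      have key : ∀ i j, i ≤ j → j < N →
          (fun z => χ (((θ ^ i)⁻¹) z)) = (fun z => χ (((θ ^ j)⁻¹) z)) → i = j := by
        intro i j hle hj hij
        obtain ⟨c, hc⟩ := hdist (j - i) fun y => by
          have := congrFun hij ((θ ^ j) y)
          simp only [MulAut.inv_apply_self] at this
          rw [← this, ← Nat.add_sub_cancel' hle, pow_add, MulAut.mul_apply, MulAut.inv_apply_self,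
            Nat.add_sub_cancel_left]
        rcases Nat.eq_zero_or_pos c with rfl | hc0
        · omega
        · have := Nat.le_mul_of_pos_right N hc0
          omega
      intro i hi j hj hij
      rw [Finset.mem_range] at hi hj
      rcases le_total i j with h' | h'
      · exact key i j h' hj hij
      · exact (key j i h' hi hij.symm).symm
    have h0 := Solvable.FPF.eq_zero_of_sum_eq_zero f (Finset.range N) (fun i => (T ^ i) w)
      (fun i z => χ (((θ ^ i)⁻¹) z)) (fun i _ z => hwt i z) hd h 0 (Finset.mem_range.mpr hN)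
    exact hw0 (by simpa using h0)
  · rw [map_sum]
    have h1 := Finset.sum_range_succ (fun i => (T ^ i) w) N
    rw [Finset.sum_range_succ', hTw, pow_zero, End.one_apply] at h1
    simp only [← End.mul_apply, ← pow_succ']
    exact add_right_cancel h1

/-- The order of a group acting freely divides the number of points. -/
theorem card_dvd_of_free {A X : Type*} [Group A] [MulAction A X] [Finite A] [Finite X]
    (h : ∀ a : A, ∀ x : X, a • x = x → a = 1) : Nat.card A ∣ Nat.card X := by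
  classical
  haveI := Fintype.ofFinite (Quotient (MulAction.orbitRel A X))
  rw [Nat.card_congr (MulAction.selfEquivSigmaOrbitsQuotientStabilizer A X), Nat.card_sigma]
  refine Finset.dvd_sum fun ω _ => ?_
  have hbot : MulAction.stabilizer A ω.out = ⊥ :=
    (Subgroup.eq_bot_iff_forall _).mpr fun a ha => h a _ ha
  rw [← Subgroup.index, hbot, Subgroup.index_bot]

/-- The order of `2` modulo `p ^ n` when `2 ^ d + 1 = p ^ j`. -/
theorem two_pow_order {p : ℕ} (hp : p.Prime) (hp2 : p ≠ 2) {d j n f : ℕ} (hd : 0 < d)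
    (hjn : j ≤ n) (hj : 2 ^ d + 1 = p ^ j) (hf0 : 0 < f) (hf : p ^ n ∣ 2 ^ f - 1) :
    2 * d * p ^ (n - j) ≤ f := by
  haveI := Fact.mk hp
  set m := p ^ j with hm
  have hj0 : 0 < j := by
    by_contra h
    have : j = 0 := by omega
    subst this
    have := Nat.one_le_two_pow (n := d)
    simp [hm] at hj
  have hfm : m ∣ 2 ^ f - 1 := (pow_dvd_pow p hjn).trans hf
  have hlt : 1 < 2 ^ d := Nat.one_lt_two_pow hd.ne'
  -- `2 ^ (2 d)` is `1` modulo `m`
  have hsq : 2 ^ (2 * d) - 1 = (2 ^ d - 1) * m := by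
    rw [← hj, two_mul, pow_add, Nat.mul_comm (2 ^ d - 1), ← Nat.sq_sub_sq, one_pow, sq]
  have h2d : (2 ^ (2 * d) : ℕ) ≡ 1 [MOD m] :=
    ((Nat.modEq_iff_dvd' Nat.one_le_two_pow).mpr ⟨2 ^ d - 1, by rw [hsq, mul_comm]⟩).symm
  obtain ⟨r, hr, hr1⟩ : ∃ r, r = f % (2 * d) ∧ (2 ^ r : ℕ) ≡ 1 [MOD m] := by
    refine ⟨_, rfl, ?_⟩
    have h1 : (2 ^ f : ℕ) ≡ 1 [MOD m] := ((Nat.modEq_iff_dvd' Nat.one_le_two_pow).mpr hfm).symm
    have h3 : (2 ^ f : ℕ) ≡ 2 ^ (f % (2 * d)) [MOD m] := by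
      conv_lhs => rw [← Nat.div_add_mod f (2 * d), pow_add, pow_mul]
      simpa using ((h2d.pow (f / (2 * d))).mul_right (2 ^ (f % (2 * d))))
    exact h3.symm.trans h1
  have hr2 : r < 2 * d := hr ▸ Nat.mod_lt _ (by omega)
  have hrd : m ∣ 2 ^ r - 1 := (Nat.modEq_iff_dvd' Nat.one_le_two_pow).mp hr1.symm
  have hr0 : r = 0 := by
    by_contra hne
    have hpos : 0 < 2 ^ r - 1 := Nat.sub_pos_of_lt (Nat.one_lt_two_pow hne)
    rcases le_or_gt r d with hle | hlt'
    · have h4 := Nat.le_of_dvd hpos hrd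
      have := Nat.pow_le_pow_right (show 0 < 2 by norm_num) hle
      omega
    · obtain ⟨e, rfl⟩ : ∃ e, r = d + e := ⟨r - d, by omega⟩
      have he : e < d := by omega
      have h6 : 2 ^ (d + e) - 1 + (2 ^ e + 1) = m * 2 ^ e := by
        rw [← hj, pow_add, add_mul, one_mul]
        have : 1 ≤ 2 ^ d * 2 ^ e := Nat.mul_pos (by positivity) (by positivity)
        omega
      have h7 : m ∣ 2 ^ e + 1 :=
        (Nat.dvd_add_right hrd).mp (h6 ▸ dvd_mul_right m (2 ^ e))
      have h8 := Nat.le_of_dvd (by positivity) h7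
      have := Nat.pow_lt_pow_right (show 1 < 2 by norm_num) he
      omega
  obtain ⟨e, rfl⟩ : 2 * d ∣ f := Nat.dvd_of_mod_eq_zero (hr ▸ hr0)
  -- lifting the exponent
  have hop : Odd p := hp.odd_of_ne_two hp2
  have hndvd : ¬ p ∣ 2 ^ d - 1 := fun h => by
    have h1 : p ∣ 2 ^ d + 1 := hj ▸ dvd_pow_self p hj0.ne'
    have h2 : p ∣ (2 ^ d + 1) - (2 ^ d - 1) := Nat.dvd_sub h1 h
    rw [show 2 ^ d + 1 - (2 ^ d - 1) = 2 by omega] at h2
    exact hp2 ((Nat.prime_dvd_prime_iff_eq hp Nat.prime_two).mp h2)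
  have he0 : e ≠ 0 := by rintro rfl; simp at hf0
  have hv1 : padicValNat p (2 ^ (2 * d) - 1) = j := by
    rw [hsq, padicValNat.mul (by omega) (pow_pos hp.pos j).ne', padicValNat.eq_zero_of_not_dvd hndvd,
      padicValNat.prime_pow, zero_add]
  have hv2 : padicValNat p ((2 ^ (2 * d)) ^ e - 1) = j + padicValNat p e := by
    have := padicValNat.pow_sub_pow (p := p) (x := 2 ^ (2 * d)) (y := 1) (n := e)
    rw [one_pow] at this
    rw [this hop (Nat.one_lt_two_pow (by omega)) (hsq ▸ dvd_mul_of_dvd_right (dvd_pow_self p hj0.ne') _)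
      (fun h => hp2 ((Nat.prime_dvd_prime_iff_eq hp Nat.prime_two).mp (hp.dvd_of_dvd_pow h))) he0, hv1]
  have hne : (2 ^ (2 * d)) ^ e - 1 ≠ 0 :=
    (Nat.sub_pos_of_lt (Nat.one_lt_pow he0 (Nat.one_lt_two_pow (by omega)))).ne'
  have hn : n ≤ j + padicValNat p e := by
    rw [← hv2]
    exact (padicValNat_dvd_iff_le hne).mp (by rw [← pow_mul]; exact hf)
  refine Nat.mul_le_mul_left _ (Nat.le_of_dvd (Nat.pos_of_ne_zero he0) ?_)
  exact (pow_dvd_pow p (by omega)).trans pow_padicValNat_dvd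

end Cfsg.Agent.Lib.Solvable.ShultGross
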