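import Mathlib
import Cfsg.Agent.Lib.Solvable.ShultGross.Eigen
import Cfsg.Agent.Lib.Solvable.ShultGross.Orbit

/-!
A group of class two with an automorphism of odd prime power order cannot act with the
automorphism fixing neither vectors nor elements, unless the top power is trivial.
-/

set_option autoImplicit false

namespace Cfsg.Agent.Lib.Solvable.ShultGross

open Module
open scoped commutatorElement

theorem cancel_of_comm {A : Type*} [Group A] (hc : ∀ u v : A, u * v = v * u) (a b c : A) :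
    a⁻¹ * b = (a * c)⁻¹ * (b * c) := by
  rw [mul_inv_rev, hc b c, ← mul_assoc, mul_assoc c⁻¹, hc a⁻¹ c, inv_mul_cancel_left]

variable {k : Type*} [Field k] [IsAlgClosed k] {W : Type*} [AddCommGroup W] [Module k W]
  [FiniteDimensional k W] {Q : Type*} [Group Q] [Finite Q]

set_option maxHeartbeats 1000000 in
/-- The non-abelian case. -/
theorem special_false {p : ℕ} (hp : p.Prime) (hp2 : p ≠ 2) {n : ℕ} (hn : 0 < n)
    (hpk : (p : k) ≠ 0) {q : ℕ} (hq : q.Prime) (hqk : (q : k) ≠ 0) (hqp : q ≠ p)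
    (hQ : IsPGroup q Q) (E : Q →* End k W) (hE : ∀ x, E x = 1 → x = 1) (T : End k W)
    (hT : T ^ p ^ n = 1) (hTfix : ∀ w, T w = w → w = 0) (θ : MulAut Q) (hθ : θ ^ p ^ n = 1)
    (hTE : ∀ x, T * E x = E (θ x) * T) (hθfix : ∀ x, θ x = x → x = 1)
    (hsub : ∀ H : Subgroup Q, Subgroup.center Q ≤ H → (∀ x ∈ H, θ x ∈ H) → H ≠ ⊤ →
      H ≤ Subgroup.center Q)
    (hcomm : commutator Q ≤ Subgroup.center Q) (hnab : Subgroup.center Q ≠ ⊤)
    (hτZ : ∀ z ∈ Subgroup.center Q, (θ ^ p ^ (n - 1)) z = z)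
    (hτQ : ∃ x, x⁻¹ * (θ ^ p ^ (n - 1)) x ∉ Subgroup.center Q) : False := by
  classical
  haveI := Fact.mk hp
  letI : Fintype Q := Fintype.ofFinite Q
  haveI := Fact.mk hq
  obtain ⟨cQ, hcQ⟩ := IsPGroup.iff_card.mp hQ
  have hQk : (Fintype.card Q : k) ≠ 0 := by
    rw [← Nat.card_eq_fintype_card, hcQ, Nat.cast_pow]
    exact pow_ne_zero _ hqk
  set Z := Subgroup.center Q with hZdef
  let cm : Q → Q → Z := fun x y =>
    ⟨⁅x, y⁆, hcomm (Subgroup.commutator_mem_commutator (Subgroup.mem_top x) (Subgroup.mem_top y))⟩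
  have hθZ : ∀ (i : ℕ), ∀ z ∈ Z, (θ ^ i) z ∈ Z := fun i z hz =>
    Subgroup.mem_center_iff.mpr fun g => by
      have := congrArg (θ ^ i) (Subgroup.mem_center_iff.mp hz ((θ ^ i)⁻¹ g))
      simpa [MulAut.apply_inv_self] using this
  let θZ : MulAut Z := MulEquiv.ofBijective
    ({ toFun := fun z => ⟨θ z, by simpa using hθZ 1 z z.2⟩
       map_one' := Subtype.ext (map_one θ)
       map_mul' := fun a b => Subtype.ext (map_mul θ _ _) } : Z →* Z)
    (Finite.injective_iff_bijective.mp fun a b hab =>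
      Subtype.ext (θ.injective (congrArg Subtype.val hab)))
  have hθZv : ∀ (i : ℕ) (z : Z), (((θZ ^ i) z : Z) : Q) = (θ ^ i) z := by
    intro i
    induction i with
    | zero => exact fun z => rfl
    | succ i ih => intro z; rw [pow_succ, pow_succ, MulAut.mul_apply, MulAut.mul_apply, ih]; rfl
  -- free action outside the centre
  have hC : ∀ (i : ℕ), ¬ p ^ n ∣ i → ∀ x, x⁻¹ * (θ ^ i) x ∈ Z → x ∈ Z := by
    intro i hi
    let H : Subgroup Q :=
      { carrier := {x | x⁻¹ * (θ ^ i) x ∈ Z}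
        one_mem' := by simp
        mul_mem' := fun {a b} ha hb => by
          simp only [Set.mem_ofPred_eq] at ha hb ⊢
          have hz := Subgroup.mem_center_iff.mp ha b
          have : (a * b)⁻¹ * (θ ^ i) (a * b) = (a⁻¹ * (θ ^ i) a) * (b⁻¹ * (θ ^ i) b) := by
            rw [map_mul]
            calc (a * b)⁻¹ * ((θ ^ i) a * (θ ^ i) b) = b⁻¹ * (a⁻¹ * (θ ^ i) a) * (θ ^ i) b := by group
              _ = b⁻¹ * ((a⁻¹ * (θ ^ i) a) * b) * (b⁻¹ * (θ ^ i) b) := by group
              _ = _ := by rw [← hz]; group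
          rw [this]
          exact mul_mem ha hb
        inv_mem' := fun {a} ha => by
          simp only [Set.mem_ofPred_eq] at ha ⊢
          have hz := Subgroup.mem_center_iff.mp ha a⁻¹
          have : a⁻¹⁻¹ * (θ ^ i) a⁻¹ = (a⁻¹ * (θ ^ i) a)⁻¹ := by
            rw [map_inv, mul_inv_rev, inv_inv]
            calc a * ((θ ^ i) a)⁻¹ = a * ((θ ^ i) a)⁻¹ * a * a⁻¹ := by group
              _ = a * (a⁻¹ * (θ ^ i) a)⁻¹ * a⁻¹ := by group
              _ = _ := by
                rw [mul_inv_eq_iff_eq_mul]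
                have := Subgroup.mem_center_iff.mp (inv_mem ha) a
                rw [this]; group
          rw [this]
          exact inv_mem ha }
    intro x hx
    refine hsub H (fun z hz => mul_mem (inv_mem hz) (hθZ i z hz)) (fun y hy => ?_) (fun hH => ?_) hx
    · show (θ y)⁻¹ * (θ ^ i) (θ y) ∈ Z
      have h1 : (θ ^ i) (θ y) = θ ((θ ^ i) y) := by
        rw [← MulAut.mul_apply, ← pow_succ, pow_succ', MulAut.mul_apply]
      rw [h1, ← map_inv, ← map_mul]
      simpa using hθZ 1 _ hy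
    · obtain ⟨x, hx⟩ := hτQ
      apply hx
      -- `θ ^ p ^ (n - 1)` is a power of `θ ^ i`
      have hall : ∀ (a : ℕ) (y : Q), y⁻¹ * (θ ^ (i * a)) y ∈ Z := by
        intro a
        induction a with
        | zero => intro y; simp
        | succ a ih =>
          intro y
          have h2 : ((θ ^ (i * a)) y) ∈ H := hH ▸ Subgroup.mem_top _
          have := mul_mem (ih y) (show ((θ ^ (i * a)) y)⁻¹ * (θ ^ i) ((θ ^ (i * a)) y) ∈ Z from h2)
          rw [mul_assoc, mul_inv_cancel_left, ← MulAut.mul_apply, ← pow_add] at this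
          rwa [Nat.mul_succ, add_comm]
      obtain ⟨e, he, hge⟩ := (Nat.dvd_prime_pow hp).mp (Nat.gcd_dvd_right i (p ^ n))
      have hen : e ≤ n - 1 := by
        by_contra h
        have : e = n := by omega
        subst this
        exact hi (hge ▸ Nat.gcd_dvd_left i _)
      obtain ⟨a, b, hab⟩ : ∃ a b, i * a = p ^ (n - 1) + p ^ n * b := by
        obtain ⟨a, -, ha⟩ := Nat.exists_mul_mod_eq_gcd (n := i) (k := p ^ n) (by
          rw [hge]; exact Nat.pow_lt_pow_right hp.one_lt (by omega))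
        obtain ⟨c, hc⟩ := pow_dvd_pow p hen
        rw [← hge] at hc
        refine ⟨a * c, i * a / p ^ n * c, ?_⟩
        calc i * (a * c) = (p ^ n * (i * a / p ^ n) + i * a % p ^ n) * c := by
              rw [Nat.div_add_mod, mul_assoc]
          _ = (p ^ n * (i * a / p ^ n) + i.gcd (p ^ n)) * c := by rw [ha]
          _ = _ := by rw [hc]; ring
      have := hall a x
      rwa [hab, pow_add, pow_mul, hθ, one_pow, mul_one] at this
  -- the character on the centre
  obtain ⟨a, b, hab⟩ : ∃ a b : Q, cm a b ≠ 1 := by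
    by_contra h
    push Not at h
    exact hnab (eq_top_iff.mpr fun x _ => Subgroup.mem_center_iff.mpr fun g => by
      exact commutatorElement_eq_one_iff_mul_comm.mp (congrArg Subtype.val (h g x)))
  have hZk : (Nat.card Z : k) ≠ 0 := by
    obtain ⟨c, -, hc⟩ := (Nat.dvd_prime_pow hq).mp (hcQ ▸ Subgroup.card_subgroup_dvd_card Z)
    rw [hc, Nat.cast_pow]
    exact pow_ne_zero _ hqk
  obtain ⟨χ, w0, hw00, hw0, hχ⟩ := Solvable.FPF.exists_weight E Z
    (fun x hx y _ => (Subgroup.mem_center_iff.mp hx y).symm) hZk (cm a b).2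
    (fun e => hab (Subtype.ext (hE _ e)))
  have hχmul : ∀ y z, χ (y * z) = χ y * χ z := fun y z => by
    refine smul_left_injective k hw00 ?_
    show χ (y * z) • w0 = (χ y * χ z) • w0
    rw [← hw0, Subgroup.coe_mul, map_mul, End.mul_apply, hw0 z, map_smul, hw0 y, smul_smul, mul_comm]
  let χh : Z →* k :=
    { toFun := χ
      map_one' := smul_left_injective k hw00
        (show χ 1 • w0 = (1 : k) • w0 by rw [← hw0, OneMemClass.coe_one, map_one, one_smul]; rfl)
      map_mul' := hχmul }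
  have hθZM : θZ ^ p ^ (n - 1) = 1 :=
    MulEquiv.ext fun z => Subtype.ext (by rw [hθZv]; exact hτZ z z.2)
  obtain ⟨N, hN, hNd, hNfix, hNmin⟩ := exists_period θZ χ (pow_pos hp.pos _) hθZM
  obtain ⟨j, hj, rfl⟩ := (Nat.dvd_prime_pow hp).mp hNd
  -- the weight space
  let V : Submodule k W := ⨅ z : Z, End.eigenspace (E (z : Q)) (χ z)
  have hVmem : ∀ {w}, w ∈ V ↔ ∀ z : Z, E (z : Q) w = χ z • w := by
    simp [V, Submodule.mem_iInf, End.mem_eigenspace_iff]
  have hVE : ∀ x, ∀ w ∈ V, E x w ∈ V := fun x w hw => hVmem.mpr fun z => by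
    rw [← End.mul_apply, ← map_mul, ← Subgroup.mem_center_iff.mp z.2 x, map_mul, End.mul_apply,
      hVmem.mp hw z, map_smul]
  have hTpow : ∀ (i : ℕ) x, T ^ i * E x = E ((θ ^ i) x) * T ^ i := by
    intro i
    induction i with
    | zero => intro x; simp
    | succ i ih =>
      intro x
      rw [pow_succ T, pow_succ θ, mul_assoc, hTE, ← mul_assoc, ih, MulAut.mul_apply, mul_assoc]
  set N := p ^ j with hNdef
  have hNfix' : ∀ a : ℕ, ∀ z : Z, χ ((θZ ^ (N * a)) z) = χ z := by
    intro a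
    induction a with
    | zero => intro z; rfl
    | succ a ih => intro z; rw [Nat.mul_succ, pow_add, MulAut.mul_apply, ih, hNfix]
  have hVT : ∀ i : ℕ, ∀ w ∈ V, (T ^ (N * i)) w ∈ V := fun i w hw => hVmem.mpr fun z => by
    have h1 := congrArg (fun e : End k W => e w) (hTpow (N * i) (((θZ ^ (N * i))⁻¹ z : Z) : Q))
    simp only [End.mul_apply, hVmem.mp hw, map_smul, ← hθZv, MulAut.apply_inv_self] at h1
    rw [← h1]
    congr 1
    rw [← hNfix' i ((θZ ^ (N * i))⁻¹ z), MulAut.apply_inv_self]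
  have hno : ∀ w ∈ V, (T ^ N) w = w → w = 0 := by
    intro w hw hwT
    by_contra hne
    obtain ⟨u, -, hu0, hu⟩ := orbit_sum (fun z : Z => E (z : Q)) T θZ
      (fun z => by rw [hTE]; rfl) χ w hne (hVmem.mp hw) N hN hNmin hwT ⊤ trivial fun _ _ => trivial
    exact hu0 (hTfix u hu)
  have hV0 : w0 ∈ V := hVmem.mpr hw0
  haveI : Nontrivial V := ⟨⟨⟨w0, hV0⟩, 0, fun e => hw00 (congrArg Subtype.val e)⟩⟩
  have hjn : j ≤ n := hj.trans (Nat.sub_le n 1)
  let t0 : End k V := (T ^ N).restrict fun w hw => by simpa using hVT 1 w hw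
  let EV : Q →* End k V :=
    { toFun := fun x => (E x).restrict (hVE x)
      map_one' := LinearMap.ext fun w => Subtype.ext (by simp)
      map_mul' := fun x y => LinearMap.ext fun w => Subtype.ext (by simp) }
  have hβV : ∀ x y, EV x * EV y = χ (cm x y) • (EV y * EV x) := by
    intro x y
    refine LinearMap.ext fun w => Subtype.ext ?_
    show E x (E y w) = χ (cm x y) • E y (E x w)
    rw [← hVmem.mp (hVE y _ (hVE x _ w.2)) (cm x y), ← End.mul_apply, ← End.mul_apply, ← End.mul_apply,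
      ← map_mul, ← map_mul, ← map_mul]
    congr 2
    simp only [cm, commutatorElement_def, mul_assoc, inv_mul_cancel_left, inv_mul_cancel, mul_one]
  have hmodd : ∀ i, Odd (p ^ i) := fun i => (hp.odd_of_ne_two hp2).pow
  have ht0 : ∀ i, ∀ w : V, (((t0 ^ i) w : V) : W) = (T ^ (N * i)) w := by
    intro i
    induction i with
    | zero => intro w; simp
    | succ i ih =>
      intro w
      rw [pow_succ, End.mul_apply, ih, Nat.mul_succ, pow_add, End.mul_apply]
      rfl
  have hNn : N * p ^ (n - j) = p ^ n := by rw [hNdef, ← pow_add, Nat.add_sub_cancel' hjn]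
  let D0 : Data k V Q :=
    { E := EV, T := t0, φ := θ ^ N, m := p ^ (n - j), β := fun x y => χ (cm x y)
      hm := hmodd _
      hT := LinearMap.ext fun w => Subtype.ext (by rw [ht0, hNn, hT]; rfl)
      hφ := by rw [← pow_mul, hNn, hθ]
      hTE := fun x => LinearMap.ext fun w => Subtype.ext (by
        show (T ^ N) (E x w) = E ((θ ^ N) x) ((T ^ N) w)
        rw [← End.mul_apply, hTpow]; rfl)
      hβ := hβV }
  set R := D0.R with hRdef
  have hθR : ∀ (a : ℕ), ∀ x ∈ R, (θ ^ (N * a)) x ∈ R := by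
    intro a
    induction a with
    | zero => intro x hx; simpa using hx
    | succ a ih =>
      intro x hx y
      rw [Nat.mul_succ, add_comm, pow_add, MulAut.mul_apply, show y = (θ ^ N) ((θ ^ N).symm y) from
        (MulEquiv.apply_symm_apply _ y).symm]
      exact (D0.β_map _ _).trans (ih x hx _)
  let φR : MulAut R := MulEquiv.ofBijective
    ({ toFun := fun x => ⟨(θ ^ N) x, by simpa using hθR 1 x x.2⟩
       map_one' := Subtype.ext (map_one (θ ^ N))
       map_mul' := fun a b => Subtype.ext (map_mul (θ ^ N) _ _) } : R →* R)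
    (Finite.injective_iff_bijective.mp fun a b hab =>
      Subtype.ext ((θ ^ N).injective (congrArg Subtype.val hab)))
  have hφRv : ∀ (i : ℕ) (x : R), (((φR ^ i) x : R) : Q) = (θ ^ (N * i)) x := by
    intro i
    induction i with
    | zero => exact fun x => rfl
    | succ i ih =>
      intro x
      rw [pow_succ, MulAut.mul_apply, ih, Nat.mul_succ, pow_add, MulAut.mul_apply]; rfl
  have hφRM : φR ^ p ^ (n - j) = 1 :=
    MulEquiv.ext fun x => Subtype.ext (by rw [hφRv, hNn, hθ]; rfl)
  obtain ⟨χ', w1, -, hw10, hw1⟩ := Solvable.FPF.exists_common_eigenvector (fun r : R => EV (r : Q))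
    (fun r r' => by
      show EV r * EV r' = EV r' * EV r
      rw [hβV, show χ (cm r r') = 1 from r.2 r', one_smul]) _ (⊤ : Submodule k V) rfl top_ne_bot
    (fun _ _ _ => trivial)
  obtain ⟨N', hN', hN'd, hN'fix, hN'min⟩ := exists_period φR χ' (pow_pos hp.pos _) hφRM
  obtain ⟨j', hj', rfl⟩ := (Nat.dvd_prime_pow hp).mp hN'd
  set N' := p ^ j' with hN'def
  let V' : Submodule k V := ⨅ r : R, End.eigenspace (EV (r : Q)) (χ' r)
  have hV'mem : ∀ {w}, w ∈ V' ↔ ∀ r : R, EV (r : Q) w = χ' r • w := by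
    simp [V', Submodule.mem_iInf, End.mem_eigenspace_iff]
  have hno' : ∀ w ∈ V', (t0 ^ N') w = w → w = 0 := by
    intro w hw hwT
    by_contra hne
    obtain ⟨u, -, hu0, hu⟩ := orbit_sum (fun r : R => EV (r : Q)) t0 φR
      (fun r => D0.hTE r) χ' w hne (hV'mem.mp hw) N' hN' hN'min hwT ⊤ trivial fun _ _ => trivial
    exact hu0 (Subtype.ext (hno u u.2 (congrArg Subtype.val hu)))
  -- minimal invariant subspace
  let Inv : Submodule k V → Prop := fun U => U ≠ ⊥ ∧ U ≤ V' ∧ (∀ x, ∀ w ∈ U, EV x w ∈ U) ∧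
    ∀ w ∈ U, (t0 ^ N') w ∈ U
  have hInv : Inv V' := by
    refine ⟨(Submodule.ne_bot_iff _).mpr ⟨w1, hV'mem.mpr hw1, hw10⟩, le_rfl, fun x w hw => ?_,
      fun w hw => ?_⟩
    · refine hV'mem.mpr fun r => ?_
      rw [← End.mul_apply, hβV, show χ (cm r x) = 1 from r.2 x, one_smul, End.mul_apply,
        hV'mem.mp hw r, map_smul]
    · refine hV'mem.mpr fun r => ?_
      have htE : ∀ i (y : R), t0 ^ i * EV (y : Q) = EV ((φR ^ i) y : Q) * t0 ^ i := by
        intro i
        induction i with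
        | zero => intro y; simp
        | succ i ih =>
          intro y
          rw [pow_succ t0, pow_succ φR, mul_assoc]
          show t0 ^ i * (t0 * EV y) = _
          rw [show t0 * EV (y : Q) = EV (φR y : Q) * t0 from D0.hTE y, ← mul_assoc, ih,
            MulAut.mul_apply, mul_assoc]
      have h1 := congrArg (fun e : End k V => e w) (htE N' ((φR ^ N')⁻¹ r))
      simp only [End.mul_apply, hV'mem.mp hw, map_smul, MulAut.apply_inv_self] at h1
      rw [← h1]
      congr 1
      rw [← hN'fix ((φR ^ N')⁻¹ r), MulAut.apply_inv_self]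
  have hex : ∃ d, ∃ U, Inv U ∧ finrank k U = d := ⟨_, V', hInv, rfl⟩
  obtain ⟨U, ⟨hU0, hUV', hUE, hUT⟩, hUd⟩ := Nat.find_spec hex
  have hUmin : ∀ U', Inv U' → U' ≤ U → U' = U := fun U' h' hle =>
    Submodule.eq_of_le_of_finrank_le hle (hUd ▸ Nat.find_le ⟨U', h', rfl⟩)
  haveI : Nontrivial U := Submodule.nontrivial_iff_ne_bot.mpr hU0
  have hj'n : j + j' ≤ n := by omega
  have hNN : N * N' * p ^ (n - j - j') = p ^ n := by
    rw [hNdef, hN'def, ← pow_add, ← pow_add]
    congr 1; omega
  let tU : End k U := (t0 ^ N').restrict hUT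
  have htU : ∀ i (w : U), (((tU ^ i) w : U) : V) = (t0 ^ (N' * i)) w := by
    intro i
    induction i with
    | zero => intro w; simp
    | succ i ih =>
      intro w
      rw [pow_succ, End.mul_apply, ih, Nat.mul_succ, pow_add, End.mul_apply]
      rfl
  let D1 : Data k U Q :=
    { E :=
        { toFun := fun x => (EV x).restrict (hUE x)
          map_one' := LinearMap.ext fun w => Subtype.ext (by simp)
          map_mul' := fun x y => LinearMap.ext fun w => Subtype.ext (by simp) }
      T := tU, φ := θ ^ (N * N'), m := p ^ (n - j - j'), β := fun x y => χ (cm x y)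
      hm := hmodd _
      hT := LinearMap.ext fun w => Subtype.ext (Subtype.ext (by
        rw [htU, ht0, ← mul_assoc, hNN, hT]; rfl))
      hφ := by rw [← pow_mul, hNN, hθ]
      hTE := fun x => LinearMap.ext fun w => Subtype.ext (Subtype.ext (by
        show (((t0 ^ N') (EV x w) : V) : W) = E ((θ ^ (N * N')) x) (((t0 ^ N') w : V) : W)
        rw [ht0, ht0]
        show (T ^ (N * N')) (E x w) = _
        rw [← End.mul_apply, hTpow]; rfl))
      hβ := fun x y => LinearMap.ext fun w => Subtype.ext (LinearMap.congr_fun (hβV x y) w) }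
  have hR1 : D1.R = R := rfl
  have hZR : Z ≤ R := fun z hz y => by
    show χ (cm z y) = 1
    rw [show cm z y = 1 from Subtype.ext
      (commutatorElement_eq_one_iff_mul_comm.mpr (Subgroup.mem_center_iff.mp hz y).symm)]
    exact χh.map_one
  have hRne : R ≠ ⊤ := fun h => hχ ((h ▸ Subgroup.mem_top a : a ∈ R) b)
  -- the action is free
  have hfree : D1.Free := by
    intro i x hi hx
    rw [hR1] at hx ⊢
    change x⁻¹ * ((θ ^ (N * N')) ^ i) x ∈ R at hx
    rw [← pow_mul] at hx
    set g := θ ^ (N * N' * i) with hg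
    have hgi : ¬ p ^ n ∣ N * N' * i := fun h => hi (by
      show p ^ (n - j - j') ∣ i
      rw [← hNN] at h
      exact Nat.dvd_of_mul_dvd_mul_left (by positivity) h)
    let δ : R → R := fun r => ⟨(r : Q)⁻¹ * g r, mul_mem (inv_mem r.2)
      (by rw [hg, mul_assoc]; exact hθR _ r r.2)⟩
    have hswap : ∀ u v : Q, ((u * v : Q) : Q ⧸ Z) = ((v * u : Q) : Q ⧸ Z) := fun u v => by
      refine QuotientGroup.eq.mpr ?_
      have h2 := (cm v⁻¹ u⁻¹).2
      simpa [cm, commutatorElement_def, mul_assoc] using h2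
    let δbar : R ⧸ Z.subgroupOf R → R ⧸ Z.subgroupOf R := Quotient.map' δ fun r r' hr => by
      rw [QuotientGroup.leftRel_apply] at hr ⊢
      change ((r : Q)⁻¹ * g r)⁻¹ * ((r' : Q)⁻¹ * g r') ∈ Z
      change (r : Q)⁻¹ * (r' : Q) ∈ Z at hr
      set z := (r : Q)⁻¹ * (r' : Q) with hz
      have hz' : g z ∈ Z := by rw [hg]; exact hθZ _ z hr
      have e : (r' : Q) = r * z := by rw [hz]; group
      rw [e, map_mul]
      have : ((r : Q)⁻¹ * g r)⁻¹ * (((r : Q) * z)⁻¹ * (g r * g z)) = z⁻¹ * g z := by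
        have hc := Subgroup.mem_center_iff.mp (inv_mem hr) ((r : Q)⁻¹ * g r)
        calc ((r : Q)⁻¹ * g r)⁻¹ * (((r : Q) * z)⁻¹ * (g r * g z))
            = ((r : Q)⁻¹ * g r)⁻¹ * (z⁻¹ * ((r : Q)⁻¹ * g r)) * g z := by group
          _ = _ := by rw [← hc]; group
      rw [this]
      exact mul_mem (inv_mem hr) hz'
    have hinj : Function.Injective δbar := by
      intro u v
      induction u using QuotientGroup.induction_on with
      | H r =>
        induction v using QuotientGroup.induction_on with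
        | H r' =>
          intro h
          have h1 : ((δ r : R) : R ⧸ Z.subgroupOf R) = (δ r' : R) := h
          rw [QuotientGroup.eq, Subgroup.mem_subgroupOf] at h1
          change ((r : Q)⁻¹ * g r)⁻¹ * ((r' : Q)⁻¹ * g r') ∈ Z at h1
          have h1' := QuotientGroup.eq.mpr h1
          rw [QuotientGroup.eq, Subgroup.mem_subgroupOf]
          show (r : Q)⁻¹ * (r' : Q) ∈ Z
          refine hC _ hgi _ (QuotientGroup.eq.mp ?_)
          show (((r : Q)⁻¹ * (r' : Q) : Q) : Q ⧸ Z) = (g ((r : Q)⁻¹ * r') : Q)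
          have hgr : ((g (r : Q) : Q) : Q ⧸ Z) = (r : Q) * (((r : Q)⁻¹ * g r : Q) : Q ⧸ Z) := by
            rw [← QuotientGroup.mk_mul, mul_inv_cancel_left]
          have hgr' : ((g (r' : Q) : Q) : Q ⧸ Z) = (r' : Q) * (((r : Q)⁻¹ * g r : Q) : Q ⧸ Z) := by
            rw [h1', ← QuotientGroup.mk_mul, mul_inv_cancel_left]
          have hc : ∀ u v : Q ⧸ Z, u * v = v * u := fun u v => by
            induction u using QuotientGroup.induction_on with
            | H u => induction v using QuotientGroup.induction_on with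
              | H v => exact hswap u v
          rw [map_mul, map_inv, QuotientGroup.mk_mul, QuotientGroup.mk_inv, QuotientGroup.mk_mul,
            QuotientGroup.mk_inv, hgr, hgr']
          exact cancel_of_comm hc _ _ _
    obtain ⟨u, hu⟩ := Finite.surjective_of_injective hinj ((⟨x⁻¹ * g x, hx⟩ : R) : R ⧸ Z.subgroupOf R)
    induction u using QuotientGroup.induction_on with
    | H r =>
      have h1 : ((δ r : R) : R ⧸ Z.subgroupOf R) = _ := hu
      rw [QuotientGroup.eq, Subgroup.mem_subgroupOf] at h1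
      change ((r : Q)⁻¹ * g r)⁻¹ * (x⁻¹ * g x) ∈ Z at h1
      have h1' := QuotientGroup.eq.mpr h1
      have hc : ∀ u v : Q ⧸ Z, u * v = v * u := fun u v => by
        induction u using QuotientGroup.induction_on with
        | H u => induction v using QuotientGroup.induction_on with
          | H v => exact hswap u v
      have h2 : (r : Q)⁻¹ * x ∈ Z := by
        refine hC _ hgi _ (QuotientGroup.eq.mp ?_)
        show (((r : Q)⁻¹ * x : Q) : Q ⧸ Z) = (g ((r : Q)⁻¹ * x) : Q)
        have hgr : ((g (r : Q) : Q) : Q ⧸ Z) = (r : Q) * (((r : Q)⁻¹ * g r : Q) : Q ⧸ Z) := by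
          rw [← QuotientGroup.mk_mul, mul_inv_cancel_left]
        have hgx : ((g x : Q) : Q ⧸ Z) = (x : Q) * (((r : Q)⁻¹ * g r : Q) : Q ⧸ Z) := by
          rw [h1', ← QuotientGroup.mk_mul, mul_inv_cancel_left]
        rw [map_mul, map_inv, QuotientGroup.mk_mul, QuotientGroup.mk_inv, QuotientGroup.mk_mul,
          QuotientGroup.mk_inv, hgr, hgx]
        exact cancel_of_comm hc _ _ _
      simpa using mul_mem r.2 (hZR h2)
  have hscal : D1.RadScalar := fun r hr => ⟨χ' ⟨r, hr⟩, LinearMap.ext fun w => Subtype.ext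
    (hV'mem.mp (hUV' w.2) ⟨r, hr⟩)⟩
  have hfixU : ∀ w, D1.T w = w → w = 0 := fun w hw =>
    Subtype.ext (hno' w (hUV' w.2) (congrArg Subtype.val hw))
  have hminU : ∀ U' : Submodule k U, (∀ x, ∀ w ∈ U', D1.E x w ∈ U') → (∀ w ∈ U', D1.T w ∈ U') →
      U' = ⊥ ∨ U' = ⊤ := by
    intro U' hE' hT'
    by_cases h : U' = ⊥
    · exact Or.inl h
    refine Or.inr ?_
    have : U'.map U.subtype = U := hUmin _ ⟨fun h0 => h ?_, (U.map_subtype_le U').trans hUV', ?_, ?_⟩
      (U.map_subtype_le U')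
    · refine Submodule.map_injective_of_injective U.injective_subtype ?_
      rw [this, Submodule.map_subtype_top]
    · refine Submodule.map_injective_of_injective U.injective_subtype ?_
      rw [h0, Submodule.map_bot]
    · rintro x _ ⟨w, hw, rfl⟩
      exact ⟨_, hE' x w hw, rfl⟩
    · rintro _ ⟨w, hw, rfl⟩
      exact ⟨_, hT' w hw, rfl⟩
  obtain ⟨hdim, hidx⟩ := D1.exceptional hQk
    (by show ((p ^ (n - j - j') : ℕ) : k) ≠ 0; rw [Nat.cast_pow]; exact pow_ne_zero _ hpk)
    hscal hRne hfree hfixU hminU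
  rw [hR1] at hidx
  -- `q = 2`
  set e := n - j - j' with hedef
  change finrank k U + 1 = p ^ e at hdim
  set dim := finrank k U with hdimdef
  obtain ⟨c, -, hc⟩ := (Nat.dvd_prime_pow hq).mp (hcQ ▸ R.index_dvd_card)
  obtain ⟨d, -, hd⟩ := (Nat.dvd_prime_pow hq).mp
    (hc ▸ (hidx ▸ dvd_pow_self dim two_ne_zero : dim ∣ R.index))
  have hdpos : 0 < d := Nat.pos_of_ne_zero fun h0 => hRne (Subgroup.index_eq_one.mp (by
    rw [hidx, hd, h0, pow_zero, one_pow]))
  have hq2 : q = 2 := by
    have h1 : 2 ∣ dim := by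
      obtain ⟨o, ho⟩ := hmodd e
      exact ⟨o, by omega⟩
    rw [hd] at h1
    exact ((Nat.prime_dvd_prime_iff_eq Nat.prime_two hq).mp (Nat.prime_two.dvd_of_dvd_pow h1)).symm
  subst hq2
  have hpe : 2 ^ d + 1 = p ^ e := by rw [← hd, hdim]
  -- the order of `Q / Z`
  obtain ⟨f, -, hf⟩ := (Nat.dvd_prime_pow hq).mp (hcQ ▸ Z.index_dvd_card)
  have hfpos : 0 < f := Nat.pos_of_ne_zero fun h0 => hnab (Subgroup.index_eq_one.mp (by
    rw [hf, h0, pow_zero]))
  have hpdiv : p ^ n ∣ 2 ^ f - 1 := by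
    let A := Subgroup.zpowers θ
    have hA : Nat.card A = p ^ n := by
      have hτ : ¬ θ ^ p ^ (n - 1) = 1 := fun h => by
        obtain ⟨x, hx⟩ := hτQ
        exact hx (by simp [h])
      rw [Nat.card_zpowers]
      obtain ⟨n', rfl⟩ : ∃ n', n = n' + 1 := ⟨n - 1, by omega⟩
      exact orderOf_eq_prime_pow hτ hθ
    let X := {x : Q // x ∉ Z}
    letI : MulAction A X :=
      { smul := fun a x => ⟨(a : MulAut Q) x, fun h => x.2 (by
          obtain ⟨i, hi⟩ := (isOfFinOrder_of_finite θ).mem_powers_iff_mem_zpowers.mpr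
            (inv_mem a.2 : (a : MulAut Q)⁻¹ ∈ A)
          have := hθZ i _ h
          rw [show θ ^ i = (a : MulAut Q)⁻¹ from hi, MulAut.inv_apply_self] at this
          exact this)⟩
        one_smul := fun x => Subtype.ext rfl
        mul_smul := fun a b x => Subtype.ext rfl }
    have hfreeA : ∀ a : A, ∀ x : X, a • x = x → a = 1 := by
      rintro ⟨a, ha⟩ x hx
      obtain ⟨i, hi⟩ := (isOfFinOrder_of_finite θ).mem_powers_iff_mem_zpowers.mpr ha
      change θ ^ i = a at hi
      refine Subtype.ext ?_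
      show a = 1
      by_cases hdi : p ^ n ∣ i
      · obtain ⟨o, ho⟩ := hdi
        rw [← hi, ho, pow_mul, hθ, one_pow]
      · refine absurd (hC i hdi x.1 ?_) x.2
        have : a x.1 = x.1 := congrArg Subtype.val hx
        rw [hi, this, inv_mul_cancel]
        exact one_mem _
    have hdX := card_dvd_of_free hfreeA
    have hX : Nat.card X = Nat.card Z * (2 ^ f - 1) := by
      rw [← hf, Nat.mul_sub, mul_one, Subgroup.card_mul_index, Nat.card_eq_fintype_card,
        Nat.card_eq_fintype_card, Nat.card_eq_fintype_card, Fintype.card_subtype_compl]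
    rw [hA, hX] at hdX
    refine Nat.Coprime.dvd_of_dvd_mul_left ?_ hdX
    obtain ⟨c', -, hc'⟩ := (Nat.dvd_prime_pow hq).mp (hcQ ▸ Subgroup.card_subgroup_dvd_card Z)
    rw [hc']
    exact Nat.coprime_pow_primes n c' hp Nat.prime_two hp2
  have hkey := two_pow_order hp hp2 hdpos (show e ≤ n by omega) hpe hfpos hpdiv
  have hNe : N ≤ p ^ (n - e) := Nat.pow_le_pow_right hp.pos (by omega)
  -- an element supported in one component
  let Ri : Fin (N - 1) → Subgroup Q := fun i => R.comap (θ ^ ((i : ℕ) + 1)).toMonoidHom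
  have hlt : (⨅ i, Ri i).index < Z.index := by
    refine lt_of_le_of_lt (Subgroup.index_iInf_le Ri) ?_
    have : ∀ i, (Ri i).index = 2 ^ (2 * d) := fun i => by
      rw [Subgroup.index_comap_of_surjective R (θ ^ ((i : ℕ) + 1)).surjective, hidx, hd, ← pow_mul,
        mul_comm]
    simp only [this, Finset.prod_const, Finset.card_univ, Fintype.card_fin, ← pow_mul, hf]
    refine Nat.pow_lt_pow_right (by norm_num) (lt_of_lt_of_le ?_ hkey)
    exact Nat.mul_lt_mul_of_pos_left (by have := hN; omega) (by omega)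
  obtain ⟨x, hxI, hxZ⟩ : ∃ x ∈ ⨅ i, Ri i, x ∉ Z := by
    by_contra h
    push Not at h
    exact absurd (Nat.le_of_dvd (Nat.pos_of_ne_zero Subgroup.index_ne_zero_of_finite)
      (Subgroup.index_dvd_of_le (fun x hx => h x hx))) (not_le.mpr hlt)
  have hsupp : ∀ i, ¬ N ∣ i → (θ ^ i) x ∈ R := by
    intro i hi
    have h0 : 0 < i % N := Nat.pos_of_ne_zero fun h => hi (Nat.dvd_of_mod_eq_zero h)
    have hlt' := Nat.mod_lt i hN
    have h1 : (θ ^ (i % N)) x ∈ R := by
      have := (Subgroup.mem_iInf.mp hxI) ⟨i % N - 1, by omega⟩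
      change (θ ^ (i % N - 1 + 1)) x ∈ R at this
      rwa [Nat.sub_add_cancel h0] at this
    rw [← Nat.div_add_mod i N, pow_add, MulAut.mul_apply]
    exact hθR _ _ h1
  have hxR : x ∉ R := by
    intro hxR
    let H : Subgroup Q := ⨅ i : ℕ, R.comap (θ ^ i).toMonoidHom
    have hH : H ≤ Z := by
      refine hsub H (fun z hz => Subgroup.mem_iInf.mpr fun i => hZR (hθZ i z hz)) (fun y hy => ?_) ?_
      · refine Subgroup.mem_iInf.mpr fun i => ?_
        show (θ ^ i) (θ y) ∈ R
        rw [← MulAut.mul_apply, ← pow_succ]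
        exact Subgroup.mem_iInf.mp hy (i + 1)
      · intro hH
        refine hRne (eq_top_iff.mpr fun y _ => ?_)
        have := Subgroup.mem_iInf.mp (hH ▸ Subgroup.mem_top y : y ∈ H) 0
        simpa using this
    refine hxZ (hH (Subgroup.mem_iInf.mpr fun i => ?_))
    show (θ ^ i) x ∈ R
    by_cases hi : N ∣ i
    · obtain ⟨o, rfl⟩ := hi
      exact hθR o x hxR
    · exact hsupp i hi
  obtain ⟨y, hy⟩ : ∃ y, χ (cm x y) ≠ 1 := by
    by_contra h
    push Not at h
    exact hxR h
  let g : ℕ → Z := fun i => (θZ ^ i) (cm x y)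
  have hcmθ : ∀ i, g i = cm ((θ ^ i) x) ((θ ^ i) y) := fun i =>
    Subtype.ext (by rw [hθZv]; exact map_commutatorElement _ x y)
  letI : CommGroup Z := { (inferInstance : Group Z) with
    mul_comm := fun u v => Subtype.ext (Subgroup.mem_center_iff.mp v.2 u) }
  let zs : Z := ∏ i ∈ Finset.range (p ^ n), g i
  have hgn : g (p ^ n) = g 0 := Subtype.ext (by rw [hθZv, hθZv, hθ]; rfl)
  have hzfix : θZ zs = zs := by
    rw [map_prod]
    have hstep : ∀ i, θZ (g i) = g (i + 1) := fun i => by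
      simp only [g]; rw [← MulAut.mul_apply, ← pow_succ']
    simp only [hstep]
    have h1 := Finset.prod_range_succ g (p ^ n)
    rw [Finset.prod_range_succ', hgn] at h1
    exact mul_right_cancel h1
  have hz1 : zs = 1 := Subtype.ext (hθfix _ (congrArg Subtype.val hzfix))
  have hχz : χ zs = χ (cm x y) ^ ((Finset.range (p ^ n)).filter (N ∣ ·)).card := by
    show χh zs = _
    rw [map_prod, ← Finset.prod_filter_mul_prod_filter_not _ (N ∣ ·),
      Finset.prod_eq_one (s := Finset.filter (fun i => ¬ N ∣ i) _) fun i hi => ?_, mul_one]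
    · refine (Finset.prod_congr rfl fun i hi => ?_).trans (Finset.prod_const _)
      obtain ⟨o, rfl⟩ := (Finset.mem_filter.mp hi).2
      exact hNfix' o _
    · rw [hcmθ]
      exact hsupp i (Finset.mem_filter.mp hi).2 _
  have hcard : ((Finset.range (p ^ n)).filter (N ∣ ·)).card = p ^ (n - j) := by
    have : (Finset.range (p ^ n)).filter (N ∣ ·) = (Finset.range (p ^ (n - j))).image (N * ·) := by
      ext i
      simp only [Finset.mem_filter, Finset.mem_range, Finset.mem_image]
      constructor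
      · rintro ⟨h1, o, rfl⟩
        exact ⟨o, Nat.lt_of_mul_lt_mul_left (hNn.symm ▸ h1), rfl⟩
      · rintro ⟨o, h1, rfl⟩
        exact ⟨hNn ▸ Nat.mul_lt_mul_of_pos_left h1 hN, dvd_mul_right _ _⟩
    rw [this, Finset.card_image_of_injective _ fun u v h => Nat.eq_of_mul_eq_mul_left hN h,
      Finset.card_range]
  rw [hz1, show χ 1 = 1 from χh.map_one, hcard] at hχz
  have h2 : χ (cm x y) ^ Nat.card Z = 1 := by
    rw [show χ (cm x y) = χh (cm x y) from rfl, ← map_pow, pow_card_eq_one', map_one]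
  obtain ⟨c', -, hc'⟩ := (Nat.dvd_prime_pow hq).mp (hcQ ▸ Subgroup.card_subgroup_dvd_card Z)
  have h3 := pow_gcd_eq_one.mpr ⟨hχz.symm, h2⟩
  rw [hc', Nat.coprime_pow_primes _ _ hp Nat.prime_two hp2, pow_one] at h3
  exact hy h3

end Cfsg.Agent.Lib.Solvable.ShultGross
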