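import Mathlib
import Cfsg.Agent.Lib.Solvable.ShultGross.Special
import Cfsg.Agent.Lib.Coprime.Action

/-!
The linear kernel of the theorem of Shult and Gross.
-/

set_option autoImplicit false

namespace Cfsg.Agent.Lib.Solvable.ShultGross

open Module Cfsg.Agent.Lib
open scoped commutatorElement

variable {k : Type*} [Field k] [IsAlgClosed k] {W : Type*} [AddCommGroup W] [Module k W]
  [FiniteDimensional k W] {Γ : Type*} [Group Γ] [Finite Γ]

/-- If an element of odd prime power order `p ^ n` fixes neither a nonzero vector nor a nontrivial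
element of a `q`-group it normalises, its power of order `p` centralises the `q`-group. -/
theorem core (ρ : Γ →* End k W) (hρ : Function.Injective ρ) {p : ℕ} (hp : p.Prime) (hp2 : p ≠ 2)
    {n : ℕ} (hn : 0 < n) (hpk : (p : k) ≠ 0) {q : ℕ} (hq : q.Prime) (hqk : (q : k) ≠ 0)
    (hqp : q ≠ p) (s : Γ) (hs : s ^ p ^ n = 1) (hfix : ∀ w, ρ s w = w → w = 0) :
    ∀ (N : ℕ) (Q : Subgroup Γ), Nat.card Q = N → IsPGroup q Q →
      s ∈ Subgroup.normalizer (Q : Set Γ) → (∀ x ∈ Q, s * x * s⁻¹ = x → x = 1) →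
      ∀ x ∈ Q, Commute (s ^ p ^ (n - 1)) x := by
  intro N
  induction N using Nat.strongRecOn with
  | ind N IH =>
  intro Q hN hQ hsQ hfixQ
  haveI := Fact.mk hp
  haveI := Fact.mk hq
  by_contra hne
  set τ := s ^ p ^ (n - 1) with hτ
  set A := Subgroup.zpowers τ with hA
  have hτn : τ ∈ Subgroup.normalizer (Q : Set Γ) := pow_mem hsQ _
  have hAQ : A ≤ Subgroup.normalizer (Q : Set Γ) := Subgroup.zpowers_le.mpr hτn
  have hcop : (Nat.card A).Coprime (Nat.card Q) := by
    obtain ⟨c, hc⟩ := IsPGroup.iff_card.mp hQ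
    rw [hc, hA, Nat.card_zpowers]
    refine Nat.Coprime.coprime_dvd_left (orderOf_dvd_of_pow_eq_one (n := p ^ 1) ?_)
      (Nat.coprime_pow_primes 1 c hp hq (Ne.symm hqp))
    rw [hτ, ← pow_mul, ← pow_add, Nat.sub_add_cancel hn, hs]
  have hcA : ∀ {H : Subgroup Γ}, (∀ x ∈ H, Commute τ x) → H ≤ Subgroup.centralizer (A : Set Γ) := by
    intro H h x hx
    rw [Subgroup.mem_centralizer_iff]
    rintro _ ⟨i, rfl⟩
    exact ((h x hx).zpow_left i).eq
  -- smaller invariant subgroups are centralised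
  have hsmall : ∀ H : Subgroup Γ, H < Q → s ∈ Subgroup.normalizer (H : Set Γ) → ∀ x ∈ H, Commute τ x := by
    intro H hH hsH
    refine IH _ ?_ H rfl (hQ.to_le hH.le) hsH fun x hx => hfixQ x (hH.le hx)
    rw [← hN]
    exact lt_of_not_ge fun h => hH.ne (Subgroup.eq_of_le_of_card_ge hH.le h)
  have hQ1 : ⁅Q, A⁆ = Q := by
    by_contra h
    have hlt : ⁅Q, A⁆ < Q := lt_of_le_of_ne (Coprime.commutator_le_of_le_normalizer hAQ) h
    have hs1 : s ∈ Subgroup.normalizer ((⁅Q, A⁆ : Subgroup Γ) : Set Γ) := by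
      have hsA : A.map (MulAut.conj s).toMonoidHom = A := by
        rw [hA, MonoidHom.map_zpowers]
        congr 1
        show s * τ * s⁻¹ = τ
        rw [hτ, (Commute.self_pow s _).eq, mul_inv_cancel_right]
      rw [Subgroup.mem_normalizer_iff_map_conj_eq] at hsQ ⊢
      rw [Subgroup.map_commutator, hsQ]
      exact congrArg _ hsA
    have h2 : ⁅⁅Q, A⁆, A⁆ = ⊥ := by
      rw [Subgroup.commutator_eq_bot_iff_le_centralizer]
      exact hcA (hsmall _ hlt hs1)
    rw [Coprime.commutator_commutator_eq hAQ hcop (Or.inl (Coprime.isSolvable_zpowers _))] at h2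
    refine hne fun x hx => ?_
    rw [Subgroup.commutator_eq_bot_iff_le_centralizer] at h2
    exact Subgroup.mem_centralizer_iff.mp (h2 hx) τ (Subgroup.mem_zpowers τ)
  have hcentral : ∀ H : Subgroup Γ, H < Q → s ∈ Subgroup.normalizer (H : Set Γ) →
      Q ≤ Subgroup.normalizer (H : Set Γ) → ∀ h ∈ H, ∀ x ∈ Q, x * h = h * x := by
    intro H hH hsH hQH h hh x hx
    have h1 : ⁅⁅A, H⁆, Q⁆ = ⊥ := by
      rw [Subgroup.commutator_comm A H, (Subgroup.commutator_eq_bot_iff_le_centralizer).mpr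
        (hcA (hsmall H hH hsH)), Subgroup.commutator_bot_left]
    have h2 : ⁅⁅H, Q⁆, A⁆ = ⊥ := by
      rw [Subgroup.commutator_eq_bot_iff_le_centralizer]
      exact (Subgroup.le_normalizer_iff_commutator_le_left.mp hQH).trans (hcA (hsmall H hH hsH))
    have h3 := Subgroup.commutator_commutator_eq_bot_of_rotate h1 h2
    rw [hQ1, Subgroup.commutator_eq_bot_iff_le_centralizer] at h3
    exact (Subgroup.mem_centralizer_iff.mp (h3 hx) h hh).symm
  -- move to the group `Q`
  let θ : MulAut Q := Q.normalizerMonoidHom ⟨s, hsQ⟩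
  have hθv : ∀ (i : ℕ) (x : Q), (((θ ^ i) x : Q) : Γ) = s ^ i * x * (s ^ i)⁻¹ := by
    intro i
    induction i with
    | zero => intro x; simp
    | succ i ih =>
      intro x
      rw [pow_succ, MulAut.mul_apply, ih, pow_succ, mul_inv_rev]
      show s ^ i * (s * x * s⁻¹) * (s ^ i)⁻¹ = _
      group
  have hθM : θ ^ p ^ n = 1 := MulEquiv.ext fun x => Subtype.ext (by rw [hθv, hs]; simp)
  have hθfix : ∀ x, θ x = x → x = 1 := fun x hx =>
    Subtype.ext (hfixQ x x.2 (congrArg Subtype.val hx))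
  have hmap : ∀ H : Subgroup Q, (∀ x ∈ H, θ x ∈ H) →
      s ∈ Subgroup.normalizer ((H.map Q.subtype : Subgroup Γ) : Set Γ) := by
    intro H hH
    rw [Subgroup.mem_normalizer_iff_map_conj_eq]
    refine Subgroup.eq_of_le_of_card_ge ?_ (Subgroup.card_map_of_injective (MulAut.conj s).injective).ge
    rintro _ ⟨_, ⟨x, hx, rfl⟩, rfl⟩
    exact ⟨θ x, hH x hx, rfl⟩
  have hmapn : ∀ H : Subgroup Q, H.Normal → Q ≤ Subgroup.normalizer ((H.map Q.subtype : Subgroup Γ) : Set Γ) := by
    intro H hH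
    rw [Subgroup.le_normalizer_iff]
    rintro x hx _ ⟨h, hh, rfl⟩
    exact ⟨_, hH.conj_mem h hh ⟨x, hx⟩, rfl⟩
  have hltQ : ∀ H : Subgroup Q, H ≠ ⊤ → H.map Q.subtype < Q := fun H hH => by
    refine lt_of_le_of_ne (Subgroup.map_subtype_le _) fun e => hH ?_
    refine eq_top_iff.mpr fun x _ => ?_
    obtain ⟨y, hy, hyx⟩ := e.ge x.2
    exact (Subtype.ext hyx : y = x) ▸ hy
  have hcen : ∀ H : Subgroup Q, H.Normal → (∀ x ∈ H, θ x ∈ H) → H ≠ ⊤ → H ≤ Subgroup.center Q :=
    fun H hn' hinv hH h hh => Subgroup.mem_center_iff.mpr fun x => Subtype.ext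
      (hcentral _ (hltQ H hH) (hmap H hinv) (hmapn H hn') h ⟨h, hh, rfl⟩ x x.2)
  have hθchar : ∀ H : Subgroup Q, H.Characteristic → ∀ x ∈ H, θ x ∈ H := fun H hH x hx =>
    (Subgroup.characteristic_iff_map_le.mp hH θ) ⟨x, hx, rfl⟩
  have hQne : Nontrivial Q := by
    by_contra h
    rw [not_nontrivial_iff_subsingleton] at h
    refine hne fun x hx => ?_
    rw [show x = 1 from congrArg Subtype.val (Subsingleton.elim (⟨x, hx⟩ : Q) 1)]
    exact Commute.one_right _
  haveI : Group.IsNilpotent Q := hQ.isNilpotent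
  have hcomm : commutator Q ≤ Subgroup.center Q :=
    hcen _ inferInstance (hθchar _ inferInstance) (Group.IsSolvable.commutator_lt_top_of_nontrivial (G := Q)).ne
  let E : Q →* End k W := ρ.comp Q.subtype
  have hE : ∀ x, E x = 1 → x = 1 := fun x hx => Subtype.ext (hρ (hx.trans (map_one ρ).symm))
  have hTE : ∀ x, ρ s * E x = E (θ x) * ρ s := fun x => by
    show ρ s * ρ x = ρ (s * x * s⁻¹) * ρ s
    rw [← map_mul, ← map_mul, inv_mul_cancel_right]
  have hT : ρ s ^ p ^ n = 1 := by rw [← map_pow, hs, map_one]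
  by_cases hab : Subgroup.center Q = ⊤
  · obtain ⟨x, hx⟩ : ∃ x : Q, (θ ^ p ^ (n - 1)) x ≠ x := by
      by_contra h
      push Not at h
      refine hne fun x hx => ?_
      have h1 := congrArg Subtype.val (h ⟨x, hx⟩)
      rw [hθv, mul_inv_eq_iff_eq_mul] at h1
      exact h1
    set w := (θ ^ p ^ (n - 1)) x * x⁻¹ with hw
    have hqQ : (Nat.card (⊤ : Subgroup Q) : k) ≠ 0 := by
      obtain ⟨c, hc⟩ := IsPGroup.iff_card.mp hQ
      rw [Subgroup.card_top, hc, Nat.cast_pow]
      exact pow_ne_zero _ hqk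
    obtain ⟨χ, v, hv0, hv, hχ⟩ := Solvable.FPF.exists_weight E ⊤
      (fun a _ b _ => (Subgroup.mem_center_iff.mp (hab ▸ Subgroup.mem_top b) a)) hqQ
      (Subgroup.mem_top w) (fun e => hx (mul_inv_eq_one.mp (hE _ e)))
    let χ' : Q → k := fun y => χ ⟨y, Subgroup.mem_top y⟩
    have hv' : ∀ y, E y v = χ' y • v := fun y => hv ⟨y, Subgroup.mem_top y⟩
    obtain ⟨M, hM, hMd, hMfix, hMmin⟩ := exists_period θ χ' (pow_pos hp.pos n) hθM
    obtain ⟨j, hj, rfl⟩ := (Nat.dvd_prime_pow hp).mp hMd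
    rcases eq_or_lt_of_le hj with rfl | hjn
    · obtain ⟨u, -, hu0, hu⟩ := orbit_sum (fun y => E y) (ρ s) θ hTE χ' v hv0 hv' _ hM hMmin
        (by rw [hT]; rfl) ⊤ trivial fun _ _ => trivial
      exact hu0 (hfix u hu)
    · have hmulfix : ∀ (c : ℕ) (y : Q), χ' ((θ ^ (p ^ j * c)) y) = χ' y := by
        intro c
        induction c with
        | zero => intro y; rfl
        | succ c ih => intro y; rw [Nat.mul_succ, pow_add, MulAut.mul_apply, ih, hMfix]
      obtain ⟨c, hc⟩ : p ^ j ∣ p ^ (n - 1) := pow_dvd_pow p (by omega)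
      have hτfix : χ' ((θ ^ p ^ (n - 1)) x) = χ' x := by rw [hc]; exact hmulfix c x
      apply hχ
      have hmul : ∀ y z, χ' (y * z) = χ' y * χ' z := fun y z => by
        refine smul_left_injective k hv0 ?_
        show χ' (y * z) • v = (χ' y * χ' z) • v
        rw [← hv', map_mul, End.mul_apply, hv', map_smul, hv', smul_smul, mul_comm]
      have h1 : χ' w * χ' x = χ' ((θ ^ p ^ (n - 1)) x) := by rw [← hmul, hw, inv_mul_cancel_right]
      rw [hτfix] at h1
      refine (mul_eq_right₀ fun e => hv0 ?_).mp h1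
      have h2 := congrArg (E x⁻¹) ((hv' x).trans (by rw [e, zero_smul]))
      rwa [map_zero, ← End.mul_apply, ← map_mul, inv_mul_cancel, map_one, End.one_apply] at h2
  · refine special_false hp hp2 hn hpk hq hqk hqp hQ E hE (ρ s) hT hfix θ hθM hTE hθfix
      (fun H hZH hinv hH => hcen H (Subgroup.Normal.of_commutator_le Q (hcomm.trans hZH)) hinv hH)
      hcomm hab (fun z hz => ?_) ?_
    · refine Subtype.ext ?_
      rw [hθv, mul_inv_eq_iff_eq_mul]
      exact hsmall _ (hltQ _ hab) (hmap _ (hθchar _ inferInstance)) z ⟨z, hz, rfl⟩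
    · by_contra h
      push Not at h
      apply hab
      have h1 : ⁅Q, A⁆ ≤ (Subgroup.center Q).map Q.subtype := by
        rw [Subgroup.commutator_le]
        intro x hx a ha
        obtain ⟨i, hi⟩ := (isOfFinOrder_of_finite τ).mem_powers_iff_mem_zpowers.mpr ha
        change τ ^ i = a at hi
        subst hi
        have h2 : ∀ y : Q, y⁻¹ * (θ ^ (p ^ (n - 1) * i)) y ∈ Subgroup.center Q := by
          intro y
          clear ha
          induction i generalizing y with
          | zero => simp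
          | succ i ih =>
            rw [Nat.mul_succ, pow_add, MulAut.mul_apply]
            have := mul_mem (h y) (ih ((θ ^ p ^ (n - 1)) y))
            simpa [mul_assoc] using this
        refine ⟨_, h2 (⟨x, hx⟩⁻¹), ?_⟩
        simp only [map_inv, Subgroup.coe_subtype, Subgroup.coe_mul, mul_inv_rev, inv_inv,
          InvMemClass.coe_inv, hθv, commutatorElement_def, hτ, ← pow_mul]
        group
      rw [hQ1] at h1
      exact eq_top_iff.mpr fun x _ => by
        obtain ⟨y, hy, hyx⟩ := h1 x.2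
        exact (Subtype.ext hyx : y = x) ▸ hy

end Cfsg.Agent.Lib.Solvable.ShultGross
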