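import Cfsg.Agent.Lib.Solvable.FPF.Basic
import Cfsg.Agent.Lib.Solvable.FPF.Module
import Cfsg.Agent.Lib.Solvable.ShultGross.Core
import Cfsg.Agent.Lib.Coprime.Action

/-!
The theorem of Shult and Gross on fixed-point-free automorphisms of odd prime power order.
-/

set_option autoImplicit false

open scoped commutatorElement

universe u

namespace Cfsg.Agent.Lib.Solvable.ShultGross

open Module Cfsg.Agent.Lib Cfsg.Agent.Lib.Solvable.FPF

/-- The action on an elementary abelian group. -/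
theorem core_mulAut {p : ℕ} (hp : p.Prime) (hp2 : p ≠ 2) {e : ℕ} (he : 0 < e)
    {V : Type*} [CommGroup V] [Finite V] {s : ℕ} [Fact s.Prime] (hsp : s ≠ p)
    {q : ℕ} (hq : q.Prime) (hqp : q ≠ p) (hqs : q ≠ s)
    (hV : ∀ v : V, v ^ s = 1) (σ : MulAut V) (hσ : σ ^ p ^ e = 1) (hfpf : ∀ v, σ v = v → v = 1)
    (Q : Subgroup (MulAut V)) (hQ : IsPGroup q Q)
    (hsQ : σ ∈ Subgroup.normalizer (Q : Set (MulAut V)))
    (hfix : ∀ x ∈ Q, σ * x * σ⁻¹ = x → x = 1) : ∀ x ∈ Q, Commute (σ ^ p ^ (e - 1)) x := by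
  classical
  obtain ⟨ρ, hρ, hnorm⟩ := exists_representation (s := s) hV
  haveI := Fintype.ofFinite (Subgroup.zpowers σ)
  have hk : ∀ r : ℕ, r.Prime → r ≠ s → (r : AlgebraicClosure (ZMod s)) ≠ 0 := fun r hr hne h =>
    hne (((Nat.prime_dvd_prime_iff_eq Fact.out hr).mp
      ((CharP.cast_eq_zero_iff (AlgebraicClosure (ZMod s)) s r).mp h)).symm)
  refine core ρ hρ hp hp2 he (hk p hp (Ne.symm hsp)) hq (hk q hq hqs) hqp σ hσ (fun w hw => ?_)
    _ Q rfl hQ hsQ hfix
  let F : Fin (Fintype.card (Subgroup.zpowers σ)) → MulAut V :=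
    fun i => (((Fintype.equivFin (Subgroup.zpowers σ)).symm i : Subgroup.zpowers σ) : MulAut V)
  have hsum0 := hnorm F (Fin.elim0 : Fin 0 → MulAut V) fun v => by
    have hr : ∏ i, F i v = ∏ a : Subgroup.zpowers σ, (a : MulAut V) v :=
      Fintype.prod_equiv (Fintype.equivFin (Subgroup.zpowers σ)).symm _ _ (fun _ => rfl)
    rw [hr, Finset.univ_eq_empty (α := Fin 0), Finset.prod_empty]
    refine hfpf _ ?_
    rw [map_prod]
    exact Fintype.prod_equiv (Equiv.mulLeft (⟨σ, Subgroup.mem_zpowers σ⟩ : Subgroup.zpowers σ)) _ _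
      (fun _ => rfl)
  have hsum : ∑ a : Subgroup.zpowers σ, ρ (a : MulAut V) = 0 := by
    rw [← Fintype.sum_equiv (Fintype.equivFin (Subgroup.zpowers σ)).symm (fun i => ρ (F i))
      (fun a : Subgroup.zpowers σ => ρ (a : MulAut V)) (fun _ => rfl), hsum0, Fintype.sum_empty]
  have hw' : ∀ a : Subgroup.zpowers σ, ρ (a : MulAut V) w = w := by
    rintro ⟨a, ha⟩
    obtain ⟨i, hi⟩ := (isOfFinOrder_of_finite σ).mem_powers_iff_mem_zpowers.mpr ha
    change σ ^ i = a at hi
    subst hi
    show ρ (σ ^ i) w = w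
    clear ha
    induction i with
    | zero => simp
    | succ i ih => rw [pow_succ, map_mul, End.mul_apply, hw, ih]
  have h1 := congrArg (fun f : End _ _ => f w) hsum
  simp only [LinearMap.sum_apply, hw', Finset.sum_const,
    Finset.card_univ, LinearMap.zero_apply, ← Nat.cast_smul_eq_nsmul (AlgebraicClosure (ZMod s))] at h1
  refine (smul_eq_zero.mp h1).resolve_left ?_
  obtain ⟨c, -, hc⟩ := (Nat.dvd_prime_pow hp).mp
    (by rw [← Nat.card_eq_fintype_card, Nat.card_zpowers]; exact orderOf_dvd_of_pow_eq_one hσ :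
      Fintype.card (Subgroup.zpowers σ) ∣ p ^ e)
  rw [hc, Nat.cast_pow]
  exact pow_ne_zero _ (hk p hp (Ne.symm hsp))

variable {G : Type u} [Group G] [Finite G]

/-- The power of order `p` is trivial modulo the Fitting subgroup. -/
theorem power_mod_fitting {p : ℕ} (hp : p.Prime) (hp2 : p ≠ 2) {e : ℕ} (he : 0 < e) :
    ∀ (n : ℕ) (G : Type u) [Group G] [Finite G], Nat.card G = n →
    Group.IsSolvable G → ∀ σ : MulAut G, σ ^ p ^ e = 1 → (∀ g, σ g = g → g = 1) →
    ∀ g, (σ ^ p ^ (e - 1)) g * g⁻¹ ∈ Cfsg.fittingSubgroup G := by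
  intro n
  induction n using Nat.strongRecOn with
  | ind n IH =>
  intro G _ _ hn hsol σ hσ hfpf g
  classical
  rcases subsingleton_or_nontrivial G with hG | hG
  · haveI := hG
    rw [Subsingleton.elim ((σ ^ p ^ (e - 1)) g * g⁻¹) 1]; exact one_mem _
  haveI := Fact.mk hp
  have hoddG : ¬ p ∣ Nat.card G := card_mod_prime (k := e) σ hσ hfpf
  set F := Cfsg.fittingSubgroup G with hF
  -- an elementary abelian characteristic subgroup
  obtain ⟨s, hs, hs0⟩ : ∃ s : ℕ, s.Prime ∧ Cfsg.pCore s G ≠ ⊥ := by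
    by_contra h
    push Not at h
    exact Cores.fittingSubgroup_ne_bot_of_isSolvable hsol
      (le_bot_iff.mp (Cores.fittingSubgroup_le_of_pCore_le fun p hp => (h p hp).le))
  haveI := Fact.mk hs
  have hsp := Cores.pCore_isPGroup s G
  have hs2 : s ≠ p := by
    rintro rfl
    haveI := (Subgroup.nontrivial_iff_ne_bot _).mpr hs0
    exact hoddG ((hsp.card_eq_or_dvd.resolve_left
      fun h => hs0 (Subgroup.card_eq_one.mp h)).trans (Subgroup.card_subgroup_dvd_card _))
  let Z₁ := (Subgroup.center (Cfsg.pCore s G)).map (Cfsg.pCore s G).subtype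
  have hZ₁ : ∀ x ∈ Z₁, ∀ y ∈ Z₁, Commute x y := by
    rintro _ ⟨a, ha, rfl⟩ _ ⟨b, hb, rfl⟩
    exact (congrArg Subtype.val (Subgroup.mem_center_iff.mp hb a))
  let V : Subgroup G :=
    { carrier := {x | x ∈ Z₁ ∧ x ^ s = 1}
      one_mem' := ⟨one_mem _, one_pow _⟩
      mul_mem' := fun {a b} ha hb => ⟨mul_mem ha.1 hb.1, by
        rw [(hZ₁ a ha.1 b hb.1).mul_pow, ha.2, hb.2, mul_one]⟩
      inv_mem' := fun {a} ha => ⟨inv_mem ha.1, by rw [inv_pow, ha.2, inv_one]⟩ }
  haveI hVc : V.Characteristic := Cores.characteristic_of_map_le fun φ => by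
    rintro _ ⟨x, hx, rfl⟩
    refine ⟨?_, ?_⟩
    · obtain ⟨⟨a, ha⟩, hac, rfl⟩ := hx.1
      exact ⟨⟨φ a, apply_mem_of_characteristic φ _ ha⟩, Subgroup.mem_center_iff.mpr fun y => Subtype.ext (by
        have h1 := congrArg Subtype.val (Subgroup.mem_center_iff.mp hac
          ⟨φ.symm y, apply_mem_of_characteristic (φ.symm : MulAut G) _ y.2⟩)
        have h2 := congrArg φ h1
        simpa using h2), rfl⟩
    · show φ x ^ s = 1
      rw [← map_pow, hx.2, map_one]
  have hV0 : V ≠ ⊥ := by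
    haveI := (Subgroup.nontrivial_iff_ne_bot _).mpr hs0
    haveI := hsp.center_nontrivial
    have hd : s ∣ Nat.card (Subgroup.center (Cfsg.pCore s G)) :=
      ((hsp.to_subgroup _).card_eq_or_dvd).resolve_left fun h =>
        (Finite.one_lt_card (α := Subgroup.center (Cfsg.pCore s G))).ne' h
    obtain ⟨x, hx⟩ := exists_prime_orderOf_dvd_card' s hd
    intro e
    have hxs : x ^ s = 1 := orderOf_dvd_iff_pow_eq_one.mp hx.dvd
    have h1 : ((x : Cfsg.pCore s G) : G) ∈ V := ⟨⟨x, x.2, rfl⟩, by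
      rw [← SubmonoidClass.coe_pow, ← SubmonoidClass.coe_pow, hxs]; rfl⟩
    rw [e, Subgroup.mem_bot] at h1
    have : x = 1 := Subtype.ext (Subtype.ext h1)
    rw [this, orderOf_one] at hx
    exact hs.ne_one hx.symm
  have hVσ : ∀ v ∈ V, σ v ∈ V := fun v hv => apply_mem_of_characteristic σ V hv
  have hVF : V ≤ F := (show V ≤ Cfsg.pCore s G from fun x hx => Subgroup.map_subtype_le _ hx.1).trans
    (Cores.pCore_le_fittingSubgroup s)
  letI : CommGroup V := { (inferInstance : Group V) with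
    mul_comm := fun a b => Subtype.ext (hZ₁ a a.2.1 b b.2.1).eq }
  let π := QuotientGroup.mk' V
  let S : Subgroup G :=
    MonoidHom.eqLocus ((QuotientGroup.mk' F).comp (σ ^ p ^ (e - 1)).toMonoidHom) (QuotientGroup.mk' F)
  have hS : ∀ x, x ∈ S ↔ (σ ^ p ^ (e - 1)) x * x⁻¹ ∈ F := fun x => by
    show (((σ ^ p ^ (e - 1)) x : G) : G ⧸ F) = (x : G ⧸ F) ↔ _
    rw [QuotientGroup.eq_iff_div_mem, div_eq_mul_inv]
  have hFS : F ≤ S := fun x hx => (hS x).mpr
    (mul_mem (apply_mem_of_characteristic (σ ^ p ^ (e - 1)) F hx) (inv_mem hx))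
  -- the automorphism of `V`
  let σV : MulAut V := MulEquiv.ofBijective
    ({ toFun := fun v => ⟨σ v, hVσ v v.2⟩
       map_one' := Subtype.ext (map_one σ)
       map_mul' := fun a b => Subtype.ext (map_mul σ _ _) } : V →* V)
    (Finite.injective_iff_bijective.mp fun a b hab =>
      Subtype.ext (σ.injective (congrArg Subtype.val hab)))
  let ψ : G →* MulAut V := MulAut.conjNormal
  have hσV : ∀ (i : ℕ) (v : V), ((σV ^ i) v : G) = (σ ^ i) v := by
    intro i
    induction i with
    | zero => exact fun _ => rfl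
    | succ i ih => intro v; rw [pow_succ, pow_succ, MulAut.mul_apply, MulAut.mul_apply, ih]; rfl
  have hψσ : ∀ x, σV * ψ x * σV⁻¹ = ψ (σ x) := by
    intro x
    rw [mul_inv_eq_iff_eq_mul]
    refine MulEquiv.ext fun v => Subtype.ext ?_
    show σ ((ψ x v : V) : G) = ((ψ (σ x) (σV v) : V) : G)
    simp only [ψ, MulAut.conjNormal_apply, map_mul, map_inv]
    rfl
  have hψ1 : ∀ x, ψ x = 1 → x ∈ Subgroup.centralizer (V : Set G) := fun x hx =>
    Subgroup.mem_centralizer_iff.mpr fun v hv => by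
      have h1 : x * v * x⁻¹ = v := by
        have := congrArg Subtype.val (DFunLike.congr_fun hx (⟨v, hv⟩ : V))
        simpa [ψ, MulAut.conjNormal_apply] using this
      exact (mul_inv_eq_iff_eq_mul.mp h1).symm
  have hM : ∀ q : ℕ, q.Prime → (Cfsg.pCore q (G ⧸ V)).comap π ≤ S := by
    intro q hq
    haveI := Fact.mk hq
    set M := (Cfsg.pCore q (G ⧸ V)).comap π with hMdef
    haveI : M.Normal := Subgroup.Normal.comap inferInstance π
    have hMσ : ∀ x ∈ M, σ x ∈ M := fun x hx => by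
      have h1 := apply_mem_of_characteristic (quotAut σ V hVσ) (Cfsg.pCore q (G ⧸ V))
        (show ((x : G) : G ⧸ V) ∈ Cfsg.pCore q (G ⧸ V) from hx)
      rw [quotAut_mk] at h1
      exact h1
    have hVM : V ≤ M := fun x hx => by
      rw [hMdef, Subgroup.mem_comap, show π x = 1 from (QuotientGroup.eq_one_iff x).mpr hx]
      exact one_mem _
    have hMq : ∀ x ∈ M, ∃ i, x ^ q ^ i ∈ V := fun x hx => by
      obtain ⟨i, hi⟩ := Cores.pCore_isPGroup q (G ⧸ V) ⟨π x, hx⟩
      refine ⟨i, (QuotientGroup.eq_one_iff _).mp ?_⟩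
      have := congrArg Subtype.val hi
      simpa [π] using this
    by_cases hqs : q = s
    · subst hqs
      have hMp : IsPGroup q M := fun x => by
        obtain ⟨i, hi⟩ := hMq x x.2
        refine ⟨i + 1, Subtype.ext ?_⟩
        rw [SubmonoidClass.coe_pow, pow_succ, pow_mul]
        exact hi.2
      exact ((Cores.le_pCore inferInstance hMp).trans (Cores.pCore_le_fittingSubgroup q)).trans hFS
    intro x hx
    rw [hS]
    set L := M.map ψ with hL
    have hLq : IsPGroup q L := by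
      rintro ⟨_, y, hy, rfl⟩
      obtain ⟨i, hi⟩ := hMq y hy
      refine ⟨i, Subtype.ext ?_⟩
      show ψ y ^ q ^ i = 1
      rw [← map_pow]
      refine MulEquiv.ext fun v => Subtype.ext ?_
      simp only [ψ, MulAut.conjNormal_apply, MulAut.one_apply]
      rw [(hZ₁ _ hi.1 _ v.2.1).eq, mul_inv_cancel_right]
    have hLdvd : Nat.card L ∣ Nat.card G :=
      (Subgroup.card_map_dvd M ψ).trans (Subgroup.card_subgroup_dvd_card M)
    have hψpow : ∀ (i : ℕ) y, σV ^ i * ψ y * (σV ^ i)⁻¹ = ψ ((σ ^ i) y) := by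
      intro i
      induction i with
      | zero => intro y; simp
      | succ i ih =>
        intro y
        rw [pow_succ σ, MulAut.mul_apply, ← ih (σ y), ← hψσ, pow_succ, mul_inv_rev]; group
    have hcomm : ∀ y ∈ L, Commute (σV ^ p ^ (e - 1)) y := by
      by_cases hL1 : L = ⊥
      · intro y hy
        rw [hL1, Subgroup.mem_bot] at hy
        rw [hy]; exact Commute.one_right _
      have hqp : q ≠ p := by
        rintro rfl
        haveI := (Subgroup.nontrivial_iff_ne_bot _).mpr hL1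
        exact hoddG ((hLq.card_eq_or_dvd.resolve_left
          fun h => hL1 (Subgroup.card_eq_one.mp h)).trans hLdvd)
      refine core_mulAut hp hp2 he hs2 hq hqp hqs (fun v : V => Subtype.ext v.2.2) σV
        (MulEquiv.ext fun v => Subtype.ext (by rw [hσV, hσ]; rfl))
        (fun v hv => Subtype.ext (hfpf v (congrArg Subtype.val hv))) L hLq
        (Coprime.mem_normalizer_of_conj_smul_eq (Coprime.eq_of_le_of_card_le (fun y hy => by
          rw [Coprime.mem_conj_smul] at hy
          obtain ⟨m, hm, hmy⟩ := hy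
          refine ⟨σ m, hMσ m hm, ?_⟩
          rw [← hψσ, hmy]; group) (Coprime.card_conj_smul σV L).ge)) ?_
      rintro _ ⟨m, hm, rfl⟩ hfixm
      rw [hψσ] at hfixm
      have hmK : m ∈ M ⊓ ψ.ker := by
        refine mem_of_inv_mul_mem hfpf (fun y hy => Subgroup.mem_inf.mpr ⟨hMσ y (Subgroup.mem_inf.mp hy).1, ?_⟩) (Subgroup.mem_inf.mpr ⟨mul_mem (inv_mem hm) (hMσ m hm), ?_⟩)
        · rw [MonoidHom.mem_ker, ← hψσ, MonoidHom.mem_ker.mp (Subgroup.mem_inf.mp hy).2]; group
        · rw [MonoidHom.mem_ker, map_mul, map_inv, hfixm, inv_mul_cancel]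
      exact (Subgroup.mem_inf.mp hmK).2
    have hx2 : ψ ((σ ^ p ^ (e - 1)) x) = ψ x := by
      have h1 := hcomm (ψ x) ⟨x, hx, rfl⟩
      have h2 : σV ^ p ^ (e - 1) * ψ x * (σV ^ p ^ (e - 1))⁻¹ = ψ ((σ ^ p ^ (e - 1)) x) := by
        exact hψpow _ x
      rw [← h2, h1.eq, mul_inv_cancel_right]
    let C := Subgroup.centralizer (V : Set G) ⊓ M
    haveI : C.Normal := inferInstance
    have hC : Group.IsNilpotent C := by
      haveI := (Cores.pCore_isPGroup q (G ⧸ V)).isNilpotent
      refine Subgroup.isNilpotent_of_ker_le_center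
        ((π.comp C.subtype).codRestrict (Cfsg.pCore q (G ⧸ V)) fun c => (Subgroup.mem_inf.mp c.2).2) ?_
      intro c hc
      rw [MonoidHom.mem_ker] at hc
      have hcV : (c : G) ∈ V := (QuotientGroup.eq_one_iff _).mp (congrArg Subtype.val hc)
      exact Subgroup.mem_center_iff.mpr fun d => Subtype.ext
        (Subgroup.mem_centralizer_iff.mp d.2.1 c hcV).symm
    refine Cores.le_fittingSubgroup inferInstance hC (Subgroup.mem_inf.mpr ⟨hψ1 _ ?_, mul_mem ?_ (inv_mem hx)⟩)
    · rw [map_mul, map_inv, hx2, mul_inv_cancel]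
    · clear hx2 hψpow hcomm
      induction p ^ (e - 1) generalizing x with
      | zero => simpa using hx
      | succ i ih => rw [pow_succ, MulAut.mul_apply]; apply ih; exact hMσ x hx
  -- the preimage of the Fitting subgroup of `G / V`
  have hMF : (Cfsg.fittingSubgroup (G ⧸ V)).comap π ≤ S := by
    intro x hx
    rw [Subgroup.mem_comap, Cores.fittingSubgroup_eq_iSup] at hx
    have h1 : ⨆ p : Nat.Primes, Cfsg.pCore (p : ℕ) (G ⧸ V) ≤ S.map π := iSup_le fun p y hy => by
      obtain ⟨m, rfl⟩ := QuotientGroup.mk'_surjective V y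
      exact ⟨m, hM p p.2 hy, rfl⟩
    obtain ⟨m, hm, hmx⟩ := h1 hx
    have h2 : m⁻¹ * x ∈ S := hFS (hVF ((QuotientGroup.eq).mp hmx))
    simpa using mul_mem hm h2
  set d := (σ ^ p ^ (e - 1)) g * g⁻¹ with hd
  have hdM : d ∈ S := hMF (by
    have hlt : Nat.card (G ⧸ V) < n := by
      rw [← hn, Subgroup.card_eq_card_quotient_mul_card_subgroup V]
      exact lt_mul_of_one_lt_right Nat.card_pos (V.one_lt_card_iff_ne_bot.mpr hV0)
    have hq4 : quotAut σ V hVσ ^ p ^ e = 1 := MulEquiv.ext fun y => by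
      induction y using QuotientGroup.induction_on with
      | H y => rw [quotAut_pow_mk, hσ]; rfl
    have h1 := IH _ hlt (G ⧸ V) rfl
      (Coprime.isSolvable_of_surjective' (QuotientGroup.mk'_surjective V) hsol)
      (quotAut σ V hVσ) hq4 (quotAut_fpf σ hfpf V hVσ) (g : G ⧸ V)
    rw [quotAut_pow_mk] at h1
    exact h1)
  rw [hS] at hdM
  haveI : F.Normal := Cores.fittingSubgroup_normal G
  set τ := σ ^ p ^ (e - 1) with hτ
  have hτd : ((τ d : G) : G ⧸ F) = (d : G ⧸ F) := by
    rw [QuotientGroup.eq_iff_div_mem, div_eq_mul_inv]; exact hdM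
  have hF : ∀ y ∈ F, τ y ∈ F := fun y hy => apply_mem_of_characteristic τ F hy
  have hτdp : ∀ i : ℕ, (((τ ^ i) g : G) : G ⧸ F) = (d : G ⧸ F) ^ i * (g : G ⧸ F) := by
    intro i
    induction i with
    | zero => simp
    | succ i ih =>
      have h3 := congrArg (quotAut τ F hF) ih
      rw [quotAut_mk, map_mul, map_pow, quotAut_mk, quotAut_mk, hτd] at h3
      rw [pow_succ', MulAut.mul_apply, h3, pow_succ, mul_assoc]
      congr 1
      rw [← QuotientGroup.mk_mul, hd, inv_mul_cancel_right]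
  have h2 : (d : G ⧸ F) ^ p = 1 := by
    have := hτdp p
    rw [hτ, ← pow_mul, ← pow_succ, Nat.sub_add_cancel he, hσ, MulAut.one_apply] at this
    exact mul_eq_right.mp this.symm
  rw [← QuotientGroup.eq_one_iff, ← orderOf_eq_one_iff]
  refine Nat.eq_one_of_dvd_coprimes ((hp.coprime_iff_not_dvd).mpr hoddG)
    (orderOf_dvd_of_pow_eq_one h2) ((orderOf_dvd_natCard _).trans ?_)
  exact Subgroup.card_quotient_dvd_card F

/-- The bound on the Fitting height. -/
theorem fitting_height {p : ℕ} (hp : p.Prime) (hp2 : p ≠ 2) :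
    ∀ (n : ℕ) (G : Type u) [Group G] [Finite G], Group.IsSolvable G → ∀ σ : MulAut G,
    σ ^ p ^ n = 1 → (∀ g, σ g = g → g = 1) →
    ∃ F : Fin (n + 1) → Subgroup G, F 0 = ⊥ ∧ F (Fin.last n) = ⊤ ∧ Monotone F ∧
      (∀ i, (F i).Normal) ∧ ∀ i : Fin n, ∃ k : ℕ, (F i.succ).lowerCentralSeries k ≤ F i.castSucc := by
  intro n
  induction n with
  | zero =>
    intro G _ _ _ σ hσ hfpf
    rw [pow_zero, pow_one] at hσ
    have h1 : ∀ g : G, g = 1 := fun g => hfpf g (by rw [hσ]; rfl)
    refine ⟨fun _ => ⊥, rfl, (eq_top_iff.mpr fun g _ => Subgroup.mem_bot.mpr (h1 g)),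
      monotone_const, fun _ => inferInstance, fun i => i.elim0⟩
  | succ n ih =>
    intro G _ _ hsol σ hσ hfpf
    set N := Cfsg.fittingSubgroup G with hN
    haveI : N.Normal := Cores.fittingSubgroup_normal G
    have hNσ : ∀ y ∈ N, σ y ∈ N := fun y hy => apply_mem_of_characteristic σ N hy
    have hq : quotAut σ N hNσ ^ p ^ n = 1 := MulEquiv.ext fun y => by
      induction y using QuotientGroup.induction_on with
      | H y =>
        rw [quotAut_pow_mk, MulAut.one_apply, QuotientGroup.eq_iff_div_mem, div_eq_mul_inv]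
        exact power_mod_fitting hp hp2 (Nat.succ_pos n) _ G rfl hsol σ hσ hfpf y
    obtain ⟨F, hF0, hFn, hFm, hFN, hFk⟩ := ih (G ⧸ N)
      (Coprime.isSolvable_of_surjective' (QuotientGroup.mk'_surjective N) hsol) _ hq
      (quotAut_fpf σ hfpf N hNσ)
    refine ⟨Fin.cons ⊥ fun i => (F i).comap (QuotientGroup.mk' N), rfl, ?_, ?_, ?_, ?_⟩
    · rw [← Fin.succ_last, Fin.cons_succ, hFn, Subgroup.comap_top]
    · intro i j hij
      induction i using Fin.cases with
      | zero => exact bot_le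
      | succ i =>
        induction j using Fin.cases with
        | zero => exact absurd hij (not_le.mpr (Fin.succ_pos i))
        | succ j =>
          rw [Fin.cons_succ, Fin.cons_succ]
          exact Subgroup.comap_mono (hFm (Fin.succ_le_succ_iff.mp hij))
    · intro i
      induction i using Fin.cases with
      | zero => rw [Fin.cons_zero]; infer_instance
      | succ i => rw [Fin.cons_succ]; exact (hFN i).comap _
    · intro i
      induction i using Fin.cases with
      | zero =>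
        rw [Fin.cons_succ, Fin.castSucc_zero, Fin.cons_zero, hF0, MonoidHom.comap_bot,
          QuotientGroup.ker_mk']
        obtain ⟨k, hk⟩ := (Subgroup.isNilpotent_iff_lowerCentralSeries _).mp
          (Cores.fittingSubgroup_isNilpotent G)
        exact ⟨k, hk.le⟩
      | succ i =>
        obtain ⟨k, hk⟩ := hFk i
        refine ⟨k, ?_⟩
        rw [Fin.cons_succ, ← Fin.succ_castSucc, Fin.cons_succ, ← Subgroup.map_le_iff_le_comap,
          Subgroup.map_lowerCentralSeries,
          Subgroup.map_comap_eq_self_of_surjective (QuotientGroup.mk'_surjective N)]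
        exact hk

end Cfsg.Agent.Lib.Solvable.ShultGross
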